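import Cfsg.Agent.Lib.M12Uniq.Setup

/-!
Congruences for integer values and characters on the fixed space of a subgroup.
-/

set_option linter.unusedSectionVars false
set_option linter.style.haveILetI false

namespace Cfsg.Agent.M12Uniq

open Cfsg Cfsg.Agent.Char Cfsg.Agent.Blocks Module

open scoped ComplexConjugate

universe u

variable {G : Type u} [Group G] [Fintype G]

/-- The character of a subgroup on the fixed space of a subgroup commuting with it. -/
theorem exists_fixed_character {χ : G → ℂ} (hχ : IsCharacter G χ) (P V : Subgroup G) [Fintype P]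
    (hpv : ∀ y ∈ P, ∀ v ∈ V, y * v = v * y) : ∃ ψ : V → ℂ, IsCharacter V ψ ∧
      ∀ v : V, ∑ y : P, χ ((y : G) * v) = (Nat.card P : ℂ) * ψ v := by
  obtain ⟨n, ρ, rfl⟩ := hχ
  let τ : Representation ℂ P (Fin n → ℂ) := ρ.comp P.subtype
  let σ : Representation ℂ V (Fin n → ℂ) := ρ.comp V.subtype
  have hcomm : ∀ (v : V) (y : P) (x : Fin n → ℂ), σ v (τ y x) = τ y (σ v x) := fun v y x => by
    show ρ (v : G) (ρ (y : G) x) = ρ (y : G) (ρ (v : G) x)
    rw [← Module.End.mul_apply, ← Module.End.mul_apply, ← map_mul, ← map_mul, hpv _ y.2 _ v.2]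
  let W : Subrepresentation σ :=
    { toSubmodule := τ.invariants
      apply_mem_toSubmodule := fun v x hx => by
        rw [Representation.mem_invariants] at hx ⊢
        intro y
        rw [← hcomm, hx y] }
  refine ⟨W.toRepresentation.character, isCharacter_of_rep _, fun v => ?_⟩
  have hmem : ∀ x, (σ v ∘ₗ avgMap τ) x ∈ W.toSubmodule := fun x =>
    W.apply_mem_toSubmodule v ((isProj_avgMap τ).map_mem x)
  have h1 : LinearMap.trace ℂ W.toSubmodule ((σ v ∘ₗ avgMap τ).restrict (fun x _ => hmem x)) =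
      LinearMap.trace ℂ _ (σ v ∘ₗ avgMap τ) := by
    have e := LinearMap.trace_comp_comm' (R := ℂ) W.toSubmodule.subtype
      ((σ v ∘ₗ avgMap τ).codRestrict W.toSubmodule hmem)
    rw [LinearMap.subtype_comp_codRestrict] at e
    exact e
  have h2 : W.toRepresentation v = (σ v ∘ₗ avgMap τ).restrict (fun x _ => hmem x) := by
    refine LinearMap.ext fun x => Subtype.ext ?_
    show σ v x.1 = σ v (avgMap τ x.1)
    rw [(isProj_avgMap τ).map_id x.1 x.2]
  show _ = (Nat.card P : ℂ) * LinearMap.trace ℂ W.toSubmodule (W.toRepresentation v)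
  rw [h2, h1, avgMap, LinearMap.comp_smul, map_smul, smul_eq_mul,
    mul_inv_cancel_left₀ (Nat.cast_ne_zero.2 Nat.card_pos.ne'), ← Module.End.mul_eq_comp, Finset.mul_sum,
    map_sum]
  refine Finset.sum_congr rfl fun y _ => ?_
  show LinearMap.trace ℂ _ (ρ ((y : G) * v)) = LinearMap.trace ℂ _ (ρ (v : G) * ρ (y : G))
  rw [hpv _ y.2 _ v.2, map_mul]

/-- An integer value at an element of prime power order is congruent to the degree. -/
theorem dvd_sub_deg {p : ℕ} [Fact p.Prime] {χ : G → ℂ} (hχ : IsCharacter G χ) {d : ℕ} (hd : χ 1 = d)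
    {g : G} {k : ℕ} (hg : orderOf g = p ^ k) {a : ℤ} (ha : χ g = a) : (p : ℤ) ∣ (d : ℤ) - a := by
  obtain ⟨M, hM⟩ := exists_isPModular_witness p
  haveI := IsPModular.isPrime hM
  have h := char_sub_one_mem hM hχ ⟨k, hg⟩
  rw [ha, hd, show (a : ℂ) - (d : ℂ) = (((a - d : ℤ)) : ℂ) by push_cast; rfl,
    intCast_memLocalIdeal_iff hM] at h
  rw [← dvd_neg, neg_sub]
  exact h

/-- A value agreed on by all characters of the same degree is a rational integer. -/
theorem exists_int_of_agree (χ : IrrCharacter G) (g : G)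
    (h : ∀ ψ : IrrCharacter G, charDegree (ψ : G → ℂ) = charDegree (χ : G → ℂ) →
      (ψ : G → ℂ) g = (χ : G → ℂ) g) : ∃ a : ℤ, (χ : G → ℂ) g = a := by
  obtain ⟨q, hq⟩ := CharGalois.eq_rat_of_fixed (irr_isIntegral χ g) fun σ => by
    have h2 : ((charDegree (DefOne.galT σ χ : G → ℂ) : ℂ)) = (charDegree (χ : G → ℂ) : ℂ) := by
      rw [← irr_one_eq_charDegree, ← irr_one_eq_charDegree, DefOne.galT_one]
    rw [← DefOne.galT_apply σ χ g, h _ (by exact_mod_cast h2)]
  obtain ⟨a, ha⟩ := exists_int_of_isIntegral (q := q) (hq ▸ irr_isIntegral χ g)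
  exact ⟨a, by rw [hq, ha]; push_cast; rfl⟩

/-- The value at the inverse. -/
theorem int_inv {χ : G → ℂ} (hχ : IsCharacter G χ) {g : G} {a : ℤ} (ha : χ g = a) :
    χ g⁻¹ = a := by rw [IsCharacter.inv hχ, ha, map_intCast]

/-- The sum of a character over a subgroup is a natural multiple of its order. -/
theorem sum_eq_nat_mul {V : Subgroup G} [Fintype V] {ψ : V → ℂ} (hψ : IsCharacter V ψ) :
    ∃ m : ℕ, ∑ v : V, ψ v = (Nat.card V : ℂ) * m := by
  obtain ⟨m, hm⟩ := IsCharacter.exists_classInner_nat hψ (isCharacter_one (G := V))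
  refine ⟨m, ?_⟩
  rw [← hm, classInner, ← mul_assoc, mul_inv_cancel₀ (Nat.cast_ne_zero.2 Nat.card_pos.ne'), one_mul]
  exact Finset.sum_congr rfl fun v _ => by rw [map_one, mul_one]

end Cfsg.Agent.M12Uniq
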