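import Cfsg.Agent.Lib.M12Uniq.Setup

/-!
A simple group of order 95040: the centralizer of an element of order eleven is cyclic and its
normaliser has order 55.
-/

set_option linter.unusedSectionVars false
set_option linter.style.haveILetI false

namespace Cfsg.Agent.M12Uniq

open Cfsg Cfsg.Agent.Char Cfsg.Agent.Blocks Cfsg.Agent.CCSylow Cfsg.Agent.DefOne

open scoped ComplexConjugate

universe u

/-- The degrees congruent to `1` or `-1` modulo eleven. -/
theorem deg_pm_eleven : ∀ d < 309, d ∣ 95040 → (d % 11 = 1 ∨ d % 11 = 10) →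
    d ∈ [1, 10, 12, 32, 45, 54, 120, 144] := by decide +kernel

/-- The degrees congruent to `5` or `-5` modulo eleven. -/
theorem deg_five_eleven : ∀ d < 309, d ∣ 95040 → (d % 11 = 5 ∨ d % 11 = 6) →
    d ∈ [5, 6, 16, 27, 60, 72, 160, 192, 270] := by decide +kernel

/-- The possible orders of the normaliser at eleven, checked. -/
theorem parity_eleven_check : (List.range 393).all (fun j =>
    Nat.beq j 0 || ((!(Nat.beq (4320 % (11 * j + 1)) 0) || Nat.beq (4320 / (11 * j + 1) % 2) 0) &&
      (!(Nat.beq (1728 % (11 * j + 1)) 0) || Nat.beq (1728 / (11 * j + 1) % 2) 0 || Nat.beq (11 * j + 1) 1728) &&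
      (!(Nat.beq (864 % (11 * j + 1)) 0) || Nat.beq (864 / (11 * j + 1) % 2) 0))) = true := by
  decide +kernel

theorem parity_eleven (n : ℕ) (hn : n < 4321) (h1 : 1 < n) (h11 : n % 11 = 1) :
    (n ∣ 4320 → 2 ∣ 4320 / n) ∧ (n ∣ 1728 → 2 ∣ 1728 / n ∨ n = 1728) ∧ (n ∣ 864 → 2 ∣ 864 / n) := by
  have h := List.all_eq_true.1 parity_eleven_check (n / 11) (List.mem_range.2 (by omega))
  have e : 11 * (n / 11) + 1 = n := by omega
  simp only [e, Bool.or_eq_true, Bool.and_eq_true, Bool.not_eq_true', ← Bool.not_eq_true,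
    Nat.beq_eq] at h
  rcases h with h0 | ⟨⟨h2, h3⟩, h4⟩
  · omega
  · simp only [Nat.dvd_iff_mod_eq_zero]
    exact ⟨fun h => h2.resolve_left (not_not.2 h), fun h => by tauto,
      fun h => h4.resolve_left (not_not.2 h)⟩

/-- The signed degree. -/
def signDeg (d : ℕ) : ℤ := if d % 11 = 1 then 1 else -1

/-- The five degrees that can occur over an involution centralizing a Sylow 11-subgroup. -/
def fiveDegs : List ℕ := [32, 45, 54, 120, 144]

theorem exists_counts {α : Type*} [DecidableEq α] (Z : Finset α) (f : α → ℕ)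
    (h : ∀ x ∈ Z, f x ∈ fiveDegs) :
    ∃ a b c d g : ℕ, a + b + c + d + g = Z.card ∧
      (∀ F : ℕ → ℤ, ∑ x ∈ Z, F (f x) = a * F 32 + b * F 45 + c * F 54 + d * F 120 + g * F 144) ∧
      (0 < a → ∃ x ∈ Z, f x = 32) ∧ (0 < b → ∃ x ∈ Z, f x = 45) ∧ (0 < c → ∃ x ∈ Z, f x = 54) := by
  induction Z using Finset.induction with
  | empty => exact ⟨0, 0, 0, 0, 0, by simp⟩
  | insert x s hx ih =>
    obtain ⟨a, b, c, d, g, hn, hF, ha, hb, hc⟩ := ih fun y hy => h y (Finset.mem_insert_of_mem hy)
    have hx' := h x (Finset.mem_insert_self x s)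
    have w : ∀ {k : ℕ}, (∃ y ∈ s, f y = k) → ∃ y ∈ insert x s, f y = k :=
      fun ⟨y, hy, he⟩ => ⟨y, Finset.mem_insert_of_mem hy, he⟩
    have me : ∀ {k : ℕ}, f x = k → ∃ y ∈ insert x s, f y = k :=
      fun he => ⟨x, Finset.mem_insert_self x s, he⟩
    have hsum : ∀ F : ℕ → ℤ, ∑ y ∈ insert x s, F (f y) = F (f x) + ∑ y ∈ s, F (f y) :=
      fun F => Finset.sum_insert hx
    rw [Finset.card_insert_of_notMem hx]
    simp only [fiveDegs, List.mem_cons, List.not_mem_nil, or_false] at hx'
    rcases hx' with e | e | e | e | e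
    · exact ⟨a + 1, b, c, d, g, by omega, fun F => by rw [hsum, hF, e]; push_cast; ring,
        fun _ => me e, fun h' => w (hb h'), fun h' => w (hc h')⟩
    · exact ⟨a, b + 1, c, d, g, by omega, fun F => by rw [hsum, hF, e]; push_cast; ring,
        fun h' => w (ha h'), fun _ => me e, fun h' => w (hc h')⟩
    · exact ⟨a, b, c + 1, d, g, by omega, fun F => by rw [hsum, hF, e]; push_cast; ring,
        fun h' => w (ha h'), fun h' => w (hb h'), fun _ => me e⟩
    · exact ⟨a, b, c, d + 1, g, by omega, fun F => by rw [hsum, hF, e]; push_cast; ring,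
        fun h' => w (ha h'), fun h' => w (hb h'), fun h' => w (hc h')⟩
    · exact ⟨a, b, c, d, g + 1, by omega, fun F => by rw [hsum, hF, e]; push_cast; ring,
        fun h' => w (ha h'), fun h' => w (hb h'), fun h' => w (hc h')⟩

/-- The degree patterns with four members, checked. -/
theorem four_pattern_check : (List.range 5).all (fun a : ℕ => (List.range 5).all fun b : ℕ =>
    (List.range 5).all fun c : ℕ => (List.range 5).all fun d : ℕ => (List.range 5).all fun g : ℕ =>
    !(Nat.beq (a + b + c + d + g) 4) ||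
      !([27, 60, 72, 160, 192, 270].contains
        (1 - 32 * (a : ℤ) + 45 * (b : ℤ) - 54 * (c : ℤ) - 120 * (d : ℤ) + 144 * (g : ℤ)).natAbs) ||
      (Nat.ble 2 a && Nat.ble 1 b) || (Nat.ble 1 a && Nat.ble 1 b && Nat.ble 1 c) ||
      (Nat.ble 2 a && Nat.ble 1 c && Nat.ble 1 g)) = true := by
  decide +kernel

theorem four_pattern (a : ℕ) (ha : a < 5) (b : ℕ) (hb : b < 5) (c : ℕ) (hc : c < 5) (d : ℕ) (hd : d < 5)
    (g : ℕ) (hg : g < 5) (hs : a + b + c + d + g = 4)
    (hmem : (1 - 32 * (a : ℤ) + 45 * b - 54 * c - 120 * d + 144 * g).natAbs ∈ [27, 60, 72, 160, 192, 270]) :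
    (2 ≤ a ∧ 1 ≤ b) ∨ (1 ≤ a ∧ 1 ≤ b ∧ 1 ≤ c) ∨ (2 ≤ a ∧ 1 ≤ c ∧ 1 ≤ g) := by
  have h := List.all_eq_true.1 four_pattern_check a (List.mem_range.2 ha)
  have h := List.all_eq_true.1 h b (List.mem_range.2 hb)
  have h := List.all_eq_true.1 h c (List.mem_range.2 hc)
  have h := List.all_eq_true.1 h d (List.mem_range.2 hd)
  have h := List.all_eq_true.1 h g (List.mem_range.2 hg)
  simp only [Bool.or_eq_true, Bool.and_eq_true, Bool.not_eq_true', ← Bool.not_eq_true, Nat.beq_eq,
    Nat.ble_eq, List.contains_iff_mem] at h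
  tauto

variable {G : Type u} [Group G] [Fintype G] [IsSimpleGroup G] (hG : Nat.card G = 95040)

include hG

/-- The normaliser of a Sylow 11-subgroup. -/
theorem eleven_normalizer (P : Sylow 11 G) :
    ∃ V : Subgroup G, Conf 11 (P : Subgroup G) V (Subgroup.normalizer ((P : Subgroup G) : Set G)) 5 ∧
      Nat.card V = 1 := by
  classical
  haveI : Fact (Nat.Prime 11) := ⟨by norm_num⟩
  haveI : Fact (Nat.Prime 2) := ⟨Nat.prime_two⟩
  obtain ⟨M, hM⟩ := exists_isPModular_witness 11
  haveI := IsPModular.isPrime hM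
  obtain ⟨P', V', e, K', he, n, hn1, hn11, hn⟩ := exists_config hG (p := 11) (by norm_num) (by norm_num)
  suffices hmain : e = 5 ∧ Nat.card V' = 1 by
    obtain ⟨rfl, hV⟩ := hmain
    have hfac : Nat.card P = 11 := by
      rw [P.card_eq_multiplicity, ← P'.card_eq_multiplicity, K'.hP]
    obtain ⟨V, e', K, -⟩ := exists_conf (by norm_num) P hfac
    obtain ⟨g, hg⟩ := MulAction.exists_smul_eq G P' P
    have hc1 : Nat.card (Subgroup.centralizer ((P : Subgroup G) : Set G)) =
        Nat.card (Subgroup.centralizer ((P' : Subgroup G) : Set G)) ∧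
        Nat.card (Subgroup.normalizer ((P : Subgroup G) : Set G)) =
        Nat.card (Subgroup.normalizer ((P' : Subgroup G) : Set G)) := by
      subst hg
      have hmem : ∀ x, x ∈ ((g • P' : Sylow 11 G) : Subgroup G) ↔ g⁻¹ * x * g ∈ (P' : Subgroup G) := by
        intro x
        rw [Sylow.coe_subgroup_smul, Subgroup.mem_pointwise_smul_iff_inv_smul_mem]
        simp [MulAut.smul_def]
      constructor <;> refine (Nat.card_congr (Equiv.subtypeEquiv (MulAut.conj g).toEquiv fun x => ?_)).symm
      · simp only [Subgroup.mem_centralizer_iff, SetLike.mem_coe, hmem, MulEquiv.toEquiv_eq_coe,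
          MulEquiv.coe_toEquiv, MulAut.conj_apply]
        constructor
        · intro h w hw
          have := h _ hw
          calc w * (g * x * g⁻¹) = g * (g⁻¹ * w * g * x) * g⁻¹ := by group
            _ = g * (x * (g⁻¹ * w * g)) * g⁻¹ := by rw [this]
            _ = g * x * g⁻¹ * w := by group
        · intro h w hw
          have := h (g * w * g⁻¹) (by simpa [mul_assoc] using hw)
          calc w * x = g⁻¹ * (g * w * g⁻¹ * (g * x * g⁻¹)) * g := by group
            _ = g⁻¹ * (g * x * g⁻¹ * (g * w * g⁻¹)) * g := by rw [this]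
            _ = x * w := by group
      · simp only [Subgroup.mem_normalizer_iff, SetLike.mem_coe, hmem, MulEquiv.toEquiv_eq_coe,
          MulEquiv.coe_toEquiv, MulAut.conj_apply]
        constructor
        · intro h w
          have := h (g⁻¹ * w * g)
          rw [this]
          constructor <;> intro h' <;> simpa [mul_assoc] using h'
        · intro h w
          have := h (g * w * g⁻¹)
          simpa [mul_assoc] using this
    have hVc : Nat.card V = 1 := by
      haveI : Fintype ((P : Subgroup G) →* ℂˣ) := Fintype.ofFinite _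
      haveI : Fintype ((P' : Subgroup G) →* ℂˣ) := Fintype.ofFinite _
      haveI : Fintype (P : Subgroup G) := Fintype.ofFinite _
      haveI : Fintype (P' : Subgroup G) := Fintype.ofFinite _
      haveI : Fintype V := Fintype.ofFinite _
      haveI : Fintype V' := Fintype.ofFinite _
      haveI : Fintype (Subgroup.normalizer ((P : Subgroup G) : Set G)) := Fintype.ofFinite _
      haveI : Fintype (Subgroup.normalizer ((P' : Subgroup G) : Set G)) := Fintype.ofFinite _
      have := hc1.1
      rw [card_centralizer K, card_centralizer K', hV] at this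
      omega
    refine ⟨V, ?_, hVc⟩
    have h2 := hc1.2
    rw [K.D.hcard, K'.D.hcard, hV, hVc, K.hP, K'.hP] at h2
    have he5 : e' = 5 := by omega
    rw [← he5]; exact K
  clear P
  set P : Sylow 11 G := P'
  set V : Subgroup G := V'
  haveI : Fintype (P : Subgroup G) := Fintype.ofFinite _
  haveI : Fintype V := Fintype.ofFinite _
  haveI : Fintype (Subgroup.normalizer ((P : Subgroup G) : Set G)) := Fintype.ofFinite _
  haveI : Fintype ((P : Subgroup G) →* ℂˣ) := Fintype.ofFinite _
  obtain ⟨eb, X, Y, δ, sg, F⟩ := exists_families K' hM (trivB V)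
  obtain ⟨hXc, hYc, hXd, hYd, hrel, hagree, hprin⟩ := families_facts hM (by norm_num) K' F
  obtain ⟨θ, hθ⟩ := F.nonempty
  have hd1 : charDegree (principal G : G → ℂ) = 1 := Cfsg.Agent.CharX.charDegree_one
  have hB := principal_eq K' hM F
  have he' : e = 1 ∨ e = 2 ∨ e = 5 ∨ e = 10 := by
    have := Nat.le_of_dvd (by norm_num) he
    interval_cases e <;> first | omega | norm_num at he
  -- the case of a trivial action
  have he1 : e ≠ 1 := by
    rintro rfl
    obtain ⟨hpX, hpsg⟩ := hprin.resolve_right fun h => by rw [h] at hYc; simp at hYc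
    have h := hrel θ hθ
    obtain ⟨a, ha⟩ := Finset.card_eq_one.1 hXc
    rw [ha, Finset.mem_singleton] at hpX
    rw [ha, Finset.sum_singleton, ← hpX, hpsg, hd1] at h
    have h1 : charDegree (θ : G → ℂ) = 1 := by
      rcases F.sign with e1 | e1 <;> rw [e1] at h <;> omega
    refine Finset.disjoint_left.1 F.disj (show principal G ∈ X by rw [ha, hpX]; simp) ?_
    rw [← eq_principal hG h1]; exact hθ
  have hodd : 2 ∣ Nat.card V ∨ (e = 5 ∧ Nat.card V = 1) := by
    have hn' : n * (e * Nat.card V) = 8640 := by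
      have : 11 * (n * (e * Nat.card V)) = 11 * 8640 := by linear_combination hn
      omega
    have hV0 : 0 < Nat.card V := Nat.card_pos
    have hnle : ∀ k, n * Nat.card V = k → n ≤ k := fun k hk => hk ▸ Nat.le_mul_of_pos_right n hV0
    have hdiv : ∀ k, n * Nat.card V = k → n ∣ k ∧ k / n = Nat.card V := fun k hk =>
      ⟨⟨_, hk.symm⟩, by rw [← hk, Nat.mul_div_cancel_left _ (by omega)]⟩
    rcases he' with rfl | rfl | rfl | rfl
    · exact absurd rfl he1
    · have hk : n * Nat.card V = 4320 := by linarith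
      have h := (parity_eleven n (by have := hnle _ hk; omega) hn1 hn11).1 (hdiv _ hk).1
      rw [(hdiv _ hk).2] at h; exact Or.inl h
    · have hk : n * Nat.card V = 1728 := by linarith
      rcases (parity_eleven n (by have := hnle _ hk; omega) hn1 hn11).2.1 (hdiv _ hk).1 with h | h
      · rw [(hdiv _ hk).2] at h; exact Or.inl h
      · right; refine ⟨rfl, ?_⟩; subst h; omega
    · have hk : n * Nat.card V = 864 := by linarith
      have h := (parity_eleven n (by have := hnle _ hk; omega) hn1 hn11).2.2 (hdiv _ hk).1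
      rw [(hdiv _ hk).2] at h; exact Or.inl h
  rcases hodd with h2 | h
  swap
  · exact h
  exfalso
  obtain ⟨v, hv⟩ := exists_prime_orderOf_dvd_card' 2 h2
  obtain ⟨y, hy⟩ := exists_ne_one_P K'
  have hy1 : (y : G) ≠ 1 := fun h => hy (Subtype.ext h)
  have hvo : orderOf (v : G) = 2 := by rw [Subgroup.orderOf_coe, hv]
  have hcomm : Commute (y : G) (v : G) := K'.D.pv _ y.2 _ v.2
  have hyo : orderOf (y : G) = 11 := orderOf_P K' y.2 hy1
  -- the values at the involution
  have hval : ∀ χ, (χ ∈ X ∨ χ ∈ Y) → χ ≠ principal G → ∃ a : ℤ, (χ : G → ℂ) v = a ∧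
      (44 : ℤ) ∣ (charDegree (χ : G → ℂ) : ℤ) - a ∧ |a| < (charDegree (χ : G → ℂ) : ℤ) := by
    intro χ hχ hne
    obtain ⟨a, ha, h4, hlt⟩ := involution_range hG hne hvo
    refine ⟨a, ha, ?_, hlt⟩
    have hχB : χ ∈ principalBlock M G := by rw [hB]; exact hχ
    set z : G := (y : G) * v with hz
    have hzo : orderOf z = 22 := by
      rw [hz, hcomm.orderOf_mul_eq_mul_orderOf_of_coprime (by rw [hyo, hvo]; norm_num), hyo, hvo]
    obtain ⟨m, hm⟩ := M11Local.pow_sum (IsIrrCharacter.isCharacter χ.2) hzo (by norm_num)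
    obtain ⟨m₀, hm₀⟩ := M11Local.pow_sum (IsIrrCharacter.isCharacter χ.2) hyo (by norm_num)
    have hvv : (v : G) * v = 1 := by rw [← pow_two, ← hvo, pow_orderOf_eq_one]
    have hy11 : (y : G) ^ 11 = 1 := orderOf_dvd_iff_pow_eq_one.1 (dvd_of_eq hyo)
    have hc : ∀ i, i % 11 ≠ 0 → (χ : G → ℂ) (z ^ i) = (χ : G → ℂ) ((y : G) ^ (i % 11)) := by
      intro i hi
      rw [hz, hcomm.mul_pow, ← pow_eq_pow_mod i hy11]
      exact section_const K' hM hχB ((P : Subgroup G).pow_mem y.2 i) (fun h => hi (by
        have := orderOf_dvd_of_pow_eq_one h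
        rw [hyo] at this
        exact Nat.mod_eq_zero_of_dvd this)) (V.pow_mem v.2 i)
    have hz0 : (χ : G → ℂ) (z ^ 11) = a := by
      rw [hz, hcomm.mul_pow, hy11, one_mul, show (11 : ℕ) = 2 * 5 + 1 from rfl, pow_succ, pow_mul,
        pow_two, hvv, one_pow, one_mul, ha]
    simp only [Finset.sum_range_succ, Finset.sum_range_zero, zero_add, pow_zero] at hm₀ hm
    rw [hc 1 (by norm_num), hc 2 (by norm_num), hc 3 (by norm_num), hc 4 (by norm_num),
      hc 5 (by norm_num), hc 6 (by norm_num), hc 7 (by norm_num), hc 8 (by norm_num),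
      hc 9 (by norm_num), hc 10 (by norm_num), hz0, hc 12 (by norm_num), hc 13 (by norm_num),
      hc 14 (by norm_num), hc 15 (by norm_num), hc 16 (by norm_num), hc 17 (by norm_num),
      hc 18 (by norm_num), hc 19 (by norm_num), hc 20 (by norm_num), hc 21 (by norm_num),
      irr_one_eq_charDegree] at hm
    rw [irr_one_eq_charDegree] at hm₀
    norm_num at hm hm₀
    have h22 : (22 : ℤ) * m = 22 * m₀ + a - (charDegree (χ : G → ℂ) : ℤ) := by
      have : ((22 : ℤ) : ℂ) * (m : ℂ) = ((22 * m₀ + a - (charDegree (χ : G → ℂ) : ℤ) : ℤ) : ℂ) := by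
        push_cast
        linear_combination 2 * hm₀ - hm
      exact_mod_cast this
    omega
  have hbig : ∀ χ, (χ ∈ X ∨ χ ∈ Y) → χ ≠ principal G → 22 < charDegree (χ : G → ℂ) := by
    intro χ hχ hne
    obtain ⟨a, -, h44, hlt⟩ := hval χ hχ hne
    rw [abs_lt] at hlt
    omega
  have hdegX : ∀ χ ∈ X, χ ≠ principal G → charDegree (χ : G → ℂ) ∈ fiveDegs ∧
      sg χ = signDeg (charDegree (χ : G → ℂ)) := by
    intro χ hχ hne
    obtain ⟨h308, hdvd⟩ := deg_facts hG χ
    have h22 := hbig χ (Or.inl hχ) hne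
    have h := hXd χ hχ
    have h5 := deg_pm_eleven (charDegree (χ : G → ℂ)) (by omega) hdvd (by
      rcases F.signX χ hχ with e1 | e1 <;> rw [e1, Int.ModEq] at h <;> omega)
    simp only [List.mem_cons, List.not_mem_nil, or_false] at h5
    constructor
    · simp only [fiveDegs, List.mem_cons, List.not_mem_nil, or_false]; omega
    · rw [signDeg]
      rcases F.signX χ hχ with e1 | e1 <;> rw [e1] at h ⊢ <;> rw [Int.ModEq] at h <;> split_ifs <;> omega
  -- the three ways to a contradiction
  have hkill : ∀ Z : Finset (IrrCharacter G), (∀ χ ∈ Z, (χ ∈ X ∨ χ ∈ Y) ∧ χ ≠ principal G) →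
      ∀ a b c d g : ℕ, (∀ F : ℕ → ℤ, ∑ χ ∈ Z, F (charDegree (χ : G → ℂ)) =
        a * F 32 + b * F 45 + c * F 54 + d * F 120 + g * F 144) →
      (0 < a → ∃ χ ∈ Z, charDegree (χ : G → ℂ) = 32) → (0 < b → ∃ χ ∈ Z, charDegree (χ : G → ℂ) = 45) →
      (0 < c → ∃ χ ∈ Z, charDegree (χ : G → ℂ) = 54) →
      ((2 ≤ a ∧ 1 ≤ b) ∨ (1 ≤ a ∧ 1 ≤ b ∧ 1 ≤ c) ∨ (2 ≤ a ∧ 1 ≤ c ∧ 1 ≤ g)) → False := by
    intro Z hZ a b c d g hF ha hb hc hcases
    choose! w hw using fun χ (h : χ ∈ Z) => hval χ (hZ χ h).1 (hZ χ h).2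
    let m : ℕ → ℤ := fun k => if k = 45 then 1 else if k = 54 then 100 else if k = 32 ∨ k = 120 ∨ k = 144 then 144 else 0
    have hlow : ∀ χ ∈ Z, m (charDegree (χ : G → ℂ)) ≤ w χ ^ 2 := by
      intro χ hχ
      obtain ⟨-, h44, hlt⟩ := hw χ hχ
      rw [abs_lt] at hlt
      have h144 : ∀ z : ℤ, (12 ≤ z ∨ z ≤ -12) → 144 ≤ z ^ 2 := fun z hz => by
        rcases hz with hz | hz <;> nlinarith
      have h100 : ∀ z : ℤ, (10 ≤ z ∨ z ≤ -10) → 100 ≤ z ^ 2 := fun z hz => by
        rcases hz with hz | hz <;> nlinarith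
      have h1 : ∀ z : ℤ, z ≠ 0 → 1 ≤ z ^ 2 := fun z hz => by
        have := Int.one_le_abs hz; nlinarith [sq_abs z]
      simp only [m]
      split_ifs with e1 e2 e3
      · exact h1 _ (by rw [e1] at h44; omega)
      · exact h100 _ (by rw [e2] at h44 hlt; omega)
      · exact h144 _ (by rcases e3 with e3 | e3 | e3 <;> rw [e3] at h44 hlt <;> omega)
      · positivity
    have hnorm : 1 + ∑ χ ∈ Z, m (charDegree (χ : G → ℂ)) ≤
        (Nat.card (Subgroup.centralizer ({(v : G)} : Set G)) : ℤ) := by
      have hp : principal G ∉ Z := fun h => (hZ _ h).2 rfl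
      have h := sum_sq_le (v : G) (insert (principal G) Z)
        (fun χ => if χ = principal G then 1 else w χ) fun χ hχ => by
          rcases Finset.mem_insert.1 hχ with r | r
          · subst r; simp [principal]
          · rw [if_neg (hZ χ r).2]; exact (hw χ r).1
      rw [Finset.sum_insert hp, if_pos rfl, one_pow,
        Finset.sum_congr rfl fun χ hχ => by rw [if_neg (hZ χ hχ).2]] at h
      exact le_trans (add_le_add_right (Finset.sum_le_sum hlow) 1) h
    rw [hF m] at hnorm
    set i := (Subgroup.centralizer ({(v : G)} : Set G)).index with hi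
    set C := Nat.card (Subgroup.centralizer ({(v : G)} : Set G)) with hC
    clear_value C i
    simp only [m] at hnorm
    norm_num at hnorm
    have hiC : i * C = 95040 := by rw [hi, hC, Subgroup.index_mul_card, hG]
    have hCpos : 0 < C := by rw [hC]; exact Nat.card_pos
    have h8 : 0 < a → 8 ∣ i := fun h => by
      obtain ⟨χ, hχ, hd⟩ := ha h
      obtain ⟨e0, h44, hlt⟩ := hw χ hχ
      have h5 := dvd_index_mul χ e0
      rw [hd] at h5 h44 hlt
      rw [abs_lt] at hlt
      rw [show w χ = -12 by push_cast at *; omega] at h5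
      push_cast at h5
      omega
    have h45 : 0 < b → 45 ∣ i := fun h => by
      obtain ⟨χ, hχ, hd⟩ := hb h
      obtain ⟨e0, h44, hlt⟩ := hw χ hχ
      have h5 := dvd_index_mul χ e0
      rw [hd] at h5 h44 hlt
      rw [abs_lt] at hlt
      rcases (show w χ = 1 ∨ w χ = -43 by push_cast at *; omega) with e1 | e1 <;> rw [e1] at h5 <;>
        push_cast at h5 <;> omega
    have h27 : 0 < c → 27 ∣ i := fun h => by
      obtain ⟨χ, hχ, hd⟩ := hc h
      obtain ⟨e0, h44, hlt⟩ := hw χ hχ
      have h5 := dvd_index_mul χ e0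
      rw [hd] at h5 h44 hlt
      rw [abs_lt] at hlt
      rcases (show w χ = 10 ∨ w χ = -34 by push_cast at *; omega) with e1 | e1 <;> rw [e1] at h5 <;>
        push_cast at h5 <;> omega
    have hCle : ∀ k, k ∣ i → k * C ≤ 95040 := fun k hk => by
      rw [← hiC]
      exact Nat.mul_le_mul_right C (Nat.le_of_dvd (Nat.pos_of_ne_zero (by
        rintro h; rw [h, zero_mul] at hiC; omega)) hk)
    rcases hcases with ⟨h1, h2'⟩ | ⟨h1, h2', h3⟩ | ⟨h1, h2', h3⟩
    · have := hCle 360 (by
        have := h8 (by omega); have := h45 (by omega); omega)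
      omega
    · have := hCle 1080 (by
        have := h8 (by omega); have := h45 (by omega); have := h27 (by omega); omega)
      omega
    · have := hCle 216 (by
        have := h8 (by omega); have := h27 (by omega); omega)
      omega
  rcases he' with rfl | rfl | rfl | rfl
  · exact he1 rfl
  · -- two: the nontrivial member has degree ten
    obtain ⟨hpX, hpsg⟩ := hprin.resolve_right fun h => by rw [h] at hYc; simp at hYc
    have hE : (X.erase (principal G)).card = 1 := by rw [Finset.card_erase_of_mem hpX, hXc]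
    obtain ⟨χ, hχ⟩ := Finset.card_eq_one.1 hE
    have hχX : χ ∈ X ∧ χ ≠ principal G := by
      have : χ ∈ X.erase (principal G) := by rw [hχ]; exact Finset.mem_singleton_self _
      exact ⟨Finset.mem_of_mem_erase this, Finset.ne_of_mem_erase this⟩
    have h := hrel θ hθ
    rw [← Finset.add_sum_erase _ _ hpX, hpsg, hd1, hχ, Finset.sum_singleton] at h
    obtain ⟨hd5, hs⟩ := hdegX χ hχX.1 hχX.2
    have hθd := (deg_facts hG θ).2
    have hθm := hYd θ hθ
    rw [hs] at h
    simp only [fiveDegs, List.mem_cons, List.not_mem_nil, or_false] at hd5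
    rcases hd5 with r | r | r | r | r <;> rw [r] at h <;> rcases F.sign with e1 | e1 <;>
      rw [e1] at h hθm <;> simp [signDeg] at h <;>
      first
        | omega
        | (rw [Int.ModEq] at hθm; push_cast at hθm; omega)
        | (rw [show charDegree (θ : G → ℂ) = 31 by omega] at hθd; norm_num at hθd)
        | (rw [show charDegree (θ : G → ℂ) = 46 by omega] at hθd; norm_num at hθd)
        | (rw [show charDegree (θ : G → ℂ) = 53 by omega] at hθd; norm_num at hθd)
        | (rw [show charDegree (θ : G → ℂ) = 119 by omega] at hθd; norm_num at hθd)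
        | (rw [show charDegree (θ : G → ℂ) = 145 by omega] at hθd; norm_num at hθd)
  · -- five
    obtain ⟨hpX, hpsg⟩ := hprin.resolve_right fun h => by rw [h] at hYc; simp at hYc
    have hne : ∀ χ ∈ X.erase (principal G), (χ ∈ X ∨ χ ∈ Y) ∧ χ ≠ principal G := fun χ h =>
      ⟨Or.inl (Finset.mem_of_mem_erase h), Finset.ne_of_mem_erase h⟩
    obtain ⟨a, b, c, d, g, hn', hF, ha, hb, hc⟩ := exists_counts (X.erase (principal G))
      (fun χ : IrrCharacter G => charDegree (χ : G → ℂ)) fun χ h =>
        (hdegX χ (Finset.mem_of_mem_erase h) (Finset.ne_of_mem_erase h)).1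
    rw [Finset.card_erase_of_mem hpX, hXc] at hn'
    have h := hrel θ hθ
    rw [← Finset.add_sum_erase _ _ hpX, hpsg, hd1, Finset.sum_congr rfl fun χ hχ => by
      rw [(hdegX χ (Finset.mem_of_mem_erase hχ) (Finset.ne_of_mem_erase hχ)).2],
      hF (fun k => signDeg k * (k : ℤ))] at h
    simp [signDeg] at h
    have hθ' : θ ≠ principal G := fun r => Finset.disjoint_left.1 F.disj hpX (r ▸ hθ)
    have hθ22 := hbig θ (Or.inr hθ) hθ'
    obtain ⟨h308, hθd⟩ := deg_facts hG θ
    have hθm := hYd θ hθ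
    have hθ5 := deg_five_eleven (charDegree (θ : G → ℂ)) (by omega) hθd (by
      rcases F.sign with e1 | e1 <;> rw [e1, Int.ModEq] at hθm <;> push_cast at hθm <;> omega)
    refine hkill _ hne a b c d g hF ha hb hc (four_pattern a (by omega) b (by omega) c (by omega) d
      (by omega) g (by omega) (by omega) ?_)
    rw [show (1 - 32 * (a : ℤ) + 45 * b - 54 * c - 120 * d + 144 * g).natAbs = charDegree (θ : G → ℂ) by
      rcases F.sign with e1 | e1 <;> rw [e1] at h <;> omega]
    simp only [List.mem_cons, List.not_mem_nil, or_false] at hθ5 ⊢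
    omega
  · -- ten
    have hY1 : Y = {θ} := (Finset.eq_singleton_iff_unique_mem.2 ⟨hθ, fun x hx => by
      have hc : Y.card ≤ 1 := by omega
      exact Finset.card_le_one.1 hc x hx θ hθ⟩)
    have hdegY : θ ≠ principal G → charDegree (θ : G → ℂ) ∈ fiveDegs ∧
        δ = signDeg (charDegree (θ : G → ℂ)) := by
      intro hne
      obtain ⟨h308, hdvd⟩ := deg_facts hG θ
      have h22 := hbig θ (Or.inr hθ) hne
      have h := hYd θ hθ
      have h5 := deg_pm_eleven (charDegree (θ : G → ℂ)) (by omega) hdvd (by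
        rcases F.sign with e1 | e1 <;> rw [e1, Int.ModEq] at h <;> push_cast at h <;> omega)
      simp only [List.mem_cons, List.not_mem_nil, or_false] at h5
      constructor
      · simp only [fiveDegs, List.mem_cons, List.not_mem_nil, or_false]; omega
      · rw [signDeg]
        rcases F.sign with e1 | e1 <;> rw [e1] at h ⊢ <;> rw [Int.ModEq] at h <;> push_cast at h <;>
          split_ifs <;> omega
    set Z := (X ∪ Y).erase (principal G) with hZdef
    have hne : ∀ χ ∈ Z, (χ ∈ X ∨ χ ∈ Y) ∧ χ ≠ principal G := fun χ h =>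
      ⟨Finset.mem_union.1 (Finset.mem_of_mem_erase h), Finset.ne_of_mem_erase h⟩
    have hdegZ : ∀ χ ∈ Z, charDegree (χ : G → ℂ) ∈ fiveDegs := fun χ h => by
      obtain ⟨h1 | h1, h2⟩ := hne χ h
      · exact (hdegX χ h1 h2).1
      · rw [hY1, Finset.mem_singleton] at h1; subst h1; exact (hdegY h2).1
    obtain ⟨a, b, c, d, g, hn', hF, ha, hb, hc⟩ := exists_counts Z
      (fun χ : IrrCharacter G => charDegree (χ : G → ℂ)) hdegZ
    have hpXY : principal G ∈ X ∪ Y := by
      rcases hprin with ⟨h, -⟩ | h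
      · exact Finset.mem_union_left _ h
      · exact Finset.mem_union_right _ (by rw [h]; exact Finset.mem_singleton_self _)
    rw [hZdef, Finset.card_erase_of_mem hpXY, Finset.card_union_of_disjoint F.disj, hXc] at hn'
    have hlin : ∑ χ ∈ X ∪ Y, signDeg (charDegree (χ : G → ℂ)) * (charDegree (χ : G → ℂ) : ℤ) = 0 := by
      have h := hrel θ hθ
      rw [Finset.sum_union F.disj, hY1, Finset.sum_singleton]
      rw [← h]
      congr 1
      · refine Finset.sum_congr rfl fun χ hχ => ?_
        by_cases hp : χ = principal G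
        · subst hp
          rw [hd1, show sg (principal G) = 1 from (hprin.resolve_right fun hy =>
            Finset.disjoint_left.1 F.disj hχ (by rw [hy]; exact Finset.mem_singleton_self _)).2]
          rfl
        · rw [(hdegX χ hχ hp).2]
      · by_cases hp : θ = principal G
        · have hm := hYd θ hθ
          rw [hp, hd1] at hm ⊢
          rcases F.sign with e1 | e1 <;> rw [e1] at hm ⊢
          · rfl
          · rw [Int.ModEq] at hm; norm_num at hm
        · rw [(hdegY hp).2]
    rw [← Finset.add_sum_erase _ _ hpXY, hd1, ← hZdef, hF (fun k => signDeg k * (k : ℤ))] at hlin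
    simp [signDeg] at hlin
    have hY1' : Y.card = 1 := by rw [hY1, Finset.card_singleton]
    exact hkill Z hne a b c d g hF ha hb hc (Or.inl ⟨by omega, by omega⟩)

end Cfsg.Agent.M12Uniq
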