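import Cfsg.Agent.Lib.DegreePTwo.Square

/-!
The symmetric square of a character.
-/

set_option autoImplicit false
set_option linter.style.haveILetI false

namespace Cfsg.Agent.M12Uniq

open Cfsg.Agent.Char Module
open scoped ComplexConjugate Matrix

universe u

variable {G : Type u} [Group G] {n : ℕ}

/-- The symmetric projection on square matrices. -/
noncomputable def symProj (n : ℕ) : Matrix (Fin n) (Fin n) ℂ →ₗ[ℂ] Matrix (Fin n) (Fin n) ℂ :=
  (1 / 2 : ℂ) • (LinearMap.id + matT n)

/-- The symmetric matrices as a subrepresentation of the congruence action. -/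
noncomputable def symSub (ρ : Representation ℂ G (Fin n → ℂ)) : Subrepresentation (congRep ρ) where
  toSubmodule := LinearMap.ker (LinearMap.id - matT n)
  apply_mem_toSubmodule g v hv := by
    rw [LinearMap.mem_ker, LinearMap.sub_apply, LinearMap.id_apply, matT_apply] at hv ⊢
    rw [congRep_apply, Matrix.transpose_mul, Matrix.transpose_mul, Matrix.transpose_transpose,
      ← Matrix.mul_assoc, ← Matrix.sub_mul, ← Matrix.mul_sub, hv, Matrix.mul_zero, Matrix.zero_mul]

theorem trace_symSub (ρ : Representation ℂ G (Fin n → ℂ)) (g : G) :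
    (symSub ρ).toRepresentation.character g =
      (ρ.character g * ρ.character g + ρ.character (g * g)) / 2 := by
  set W := (symSub ρ).toSubmodule with hW
  have hmemP : ∀ A, (congRep ρ g ∘ₗ symProj n) A ∈ W := by
    intro A
    refine (symSub ρ).apply_mem_toSubmodule g ?_
    change symProj n A ∈ LinearMap.ker (LinearMap.id - matT n)
    simp only [symProj, LinearMap.mem_ker, LinearMap.sub_apply, LinearMap.id_apply,
      LinearMap.smul_apply, LinearMap.add_apply, matT_apply, Matrix.transpose_smul,
      Matrix.transpose_add, Matrix.transpose_transpose]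
    rw [← smul_sub, add_comm A, sub_self, smul_zero]
  have h1 : LinearMap.trace ℂ W ((congRep ρ g ∘ₗ symProj n).restrict (fun x _ => hmemP x)) =
      LinearMap.trace ℂ _ (congRep ρ g ∘ₗ symProj n) := by
    have e := LinearMap.trace_comp_comm' (R := ℂ) W.subtype
      ((congRep ρ g ∘ₗ symProj n).codRestrict W hmemP)
    rw [LinearMap.subtype_comp_codRestrict] at e
    exact e
  have h2 : (symSub ρ).toRepresentation g =
      (congRep ρ g ∘ₗ symProj n).restrict (fun x _ => hmemP x) := by
    refine LinearMap.ext fun A => Subtype.ext ?_
    change congRep ρ g A.1 = congRep ρ g (symProj n A.1)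
    congr 1
    have hA : A.1 - A.1ᵀ = 0 := A.2
    rw [symProj, LinearMap.smul_apply, LinearMap.add_apply, LinearMap.id_apply, matT_apply,
      ← sub_eq_zero.1 hA, ← two_smul ℂ A.1, smul_smul]
    norm_num
  rw [Representation.character, h2, h1, symProj, LinearMap.comp_smul, map_smul, LinearMap.comp_add,
    LinearMap.comp_id, map_add]
  have h3 : LinearMap.trace ℂ _ (congRep ρ g ∘ₗ matT n) = ρ.character (g * g) := by
    rw [← Module.End.mul_eq_comp, LinearMap.trace_mul_comm, Module.End.mul_eq_comp,
      trace_matT_congRep]
  rw [h3, show LinearMap.trace ℂ _ (congRep ρ g) = (congRep ρ).character g from rfl, trace_congRep,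
    smul_eq_mul]
  ring

/-- The symmetric square of a character is a character. -/
theorem isCharacter_symSquare {χ : G → ℂ} (h : Cfsg.IsCharacter G χ) :
    Cfsg.IsCharacter G (fun g => (χ g * χ g + χ (g * g)) / 2) := by
  obtain ⟨m, ρ, rfl⟩ := h
  have := isCharacter_of_rep (symSub ρ).toRepresentation
  rwa [show (symSub ρ).toRepresentation.character =
      fun g => (ρ.character g * ρ.character g + ρ.character (g * g)) / 2 from
    funext fun g => trace_symSub ρ g] at this

end Cfsg.Agent.M12Uniq
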