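import Cfsg.Agent.Lib.M12Uniq.ElevenBlock
import Cfsg.Agent.Lib.Small.SylowToolkit

/-!
Groups of order 95040 with the same numbers of elements of equal order as a simple one are simple.
-/

set_option linter.unusedSectionVars false
set_option linter.style.haveILetI false

namespace Cfsg.Agent.M12Uniq

open Cfsg

universe u

variable {H : Type u} [Group H] [Finite H]

/-- The number of elements of order `p` when the Sylow subgroups have prime order. -/
theorem count_prime {p m : ℕ} [Fact p.Prime] (hcard : Nat.card H = p * m) (hm : ¬ p ∣ m) :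
    Nat.card {g : H // orderOf g = p} = Nat.card (Sylow p H) * (p - 1) := by
  classical
  haveI : Fintype H := Fintype.ofFinite H
  haveI : Fintype (Sylow p H) := Fintype.ofFinite _
  have hp := (Fact.out : p.Prime)
  have hP : ∀ P : Sylow p H, Nat.card (P : Subgroup H) = p := fun P => by
    rw [Small.sylow_card (k := 1) (by rw [pow_one, hcard]) hm P, pow_one]
  have hgen : ∀ (P : Sylow p H) (g : H), g ∈ (P : Subgroup H) → g ≠ 1 →
      Subgroup.zpowers g = (P : Subgroup H) := by
    intro P g hg hg1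
    refine Subgroup.eq_of_le_of_card_ge (Subgroup.zpowers_le.2 hg) ?_
    rw [hP, Nat.card_zpowers]
    rcases (Nat.dvd_prime hp).1 (hP P ▸ Subgroup.orderOf_dvd_natCard _ hg) with h | h
    · exact absurd (orderOf_eq_one_iff.1 h) hg1
    · rw [h]
  have hset : (Finset.univ.filter fun g : H => orderOf g = p) =
      (Finset.univ : Finset (Sylow p H)).biUnion fun P =>
        (Finset.univ.filter fun g : H => g ∈ (P : Subgroup H)).erase 1 := by
    ext g
    simp only [Finset.mem_filter, Finset.mem_univ, true_and, Finset.mem_biUnion, Finset.mem_erase]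
    constructor
    · intro hg
      obtain ⟨P, hP'⟩ := (IsPGroup.of_card (n := 1) (by rw [Nat.card_zpowers, hg, pow_one]) :
        IsPGroup p (Subgroup.zpowers g)).exists_le_sylow
      exact ⟨P, fun h => by rw [h, orderOf_one] at hg; exact hp.ne_one hg.symm,
        hP' (Subgroup.mem_zpowers g)⟩
    · rintro ⟨P, hg1, hg⟩
      rw [← Nat.card_zpowers, hgen P g hg hg1, hP]
  rw [Nat.card_eq_fintype_card, Fintype.card_subtype, hset, Finset.card_biUnion,
    Finset.sum_congr rfl fun P _ => show _ = p - 1 by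
      rw [Finset.card_erase_of_mem (by simp), ← Fintype.card_subtype, ← Nat.card_eq_fintype_card, hP],
    Finset.sum_const, Finset.card_univ, ← Nat.card_eq_fintype_card, smul_eq_mul]
  intro P _ Q _ hPQ
  refine Finset.disjoint_left.2 fun g hg hg' => hPQ ?_
  simp only [Finset.mem_erase, Finset.mem_filter, Finset.mem_univ, true_and] at hg hg'
  exact Sylow.ext ((hgen P g hg.2 hg.1).symm.trans (hgen Q g hg'.2 hg'.1))

/-- The numbers of elements of a given order in a simple group of order 95040. -/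
theorem count_cases {M : Type u} [Group M] [Finite M] [IsSimpleGroup M] (hM : Nat.card M = 95040)
    (n : ℕ) : Nat.card {g : M // orderOf g = n} = 1 ∨ Nat.card {g : M // orderOf g = n} = 17280 ∨
      11 ∣ Nat.card {g : M // orderOf g = n} := by
  classical
  haveI : Fintype M := Fintype.ofFinite M
  haveI : Fact (Nat.Prime 11) := ⟨by norm_num⟩
  by_cases hn1 : n = 1
  · subst hn1
    refine Or.inl (Nat.card_eq_one_iff_unique.2 ⟨⟨fun a b => Subtype.ext
      ((orderOf_eq_one_iff.1 a.2).trans (orderOf_eq_one_iff.1 b.2).symm)⟩, ⟨⟨1, orderOf_one⟩⟩⟩)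
  obtain ⟨hcent, -⟩ := exists_eleven hM
  by_cases hn : n = 11
  · subst hn
    refine Or.inr (Or.inl ?_)
    rw [count_prime (m := 8640) (by rw [hM]) (by norm_num)]
    obtain ⟨P⟩ : Nonempty (Sylow 11 M) := inferInstance
    obtain ⟨V, K, hV⟩ := eleven_normalizer hM P
    have h55 : Nat.card (Subgroup.normalizer ((P : Subgroup M) : Set M)) = 55 := by
      rw [K.D.hcard, K.hP, hV]
    have h := Small.card_normalizer_mul P
    rw [h55, hM] at h
    omega
  refine Or.inr (Or.inr ?_)
  obtain ⟨x, hx⟩ := exists_prime_orderOf_dvd_card' (G := M) 11 (by rw [hM]; norm_num)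
  have hXp : IsPGroup 11 (Subgroup.zpowers x) := IsPGroup.of_card (n := 1) (by rw [Nat.card_zpowers, hx, pow_one])
  letI act : MulAction (Subgroup.zpowers x) {g : M // orderOf g = n} :=
    { smul := fun c g => ⟨(c : M) * g.1 * (c : M)⁻¹, by
        rw [← MulAut.conj_apply, MulEquiv.orderOf_eq]; exact g.2⟩
      one_smul := fun g => Subtype.ext (show (1 : M) * g.1 * (1 : M)⁻¹ = g.1 by group)
      mul_smul := fun a b g => Subtype.ext (show (a : M) * b * g.1 * ((a : M) * b)⁻¹ =
        (a : M) * ((b : M) * g.1 * (b : M)⁻¹) * (a : M)⁻¹ by group) }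
  have h := hXp.card_modEq_card_fixedPoints {g : M // orderOf g = n}
  haveI : IsEmpty (MulAction.fixedPoints (Subgroup.zpowers x) {g : M // orderOf g = n}) := by
    refine ⟨fun ⟨g, hg⟩ => ?_⟩
    have e : x * g.1 * x⁻¹ = g.1 := congrArg Subtype.val (hg ⟨x, Subgroup.mem_zpowers x⟩)
    have hmem : g.1 ∈ Subgroup.centralizer ({x} : Set M) :=
      Subgroup.mem_centralizer_singleton_iff.2 (mul_inv_eq_iff_eq_mul.1 e).symm
    have hd : orderOf g.1 ∣ 11 := hcent x hx ▸ Subgroup.orderOf_dvd_natCard _ hmem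
    rw [g.2] at hd
    rcases (Nat.dvd_prime (by norm_num)).1 hd with r | r
    · exact hn1 r
    · exact hn r
  rw [Nat.card_of_isEmpty (α := MulAction.fixedPoints _ _)] at h
  exact Nat.modEq_zero_iff_dvd.1 h

variable (hH : Nat.card H = 95040)

include hH

/-- No element of order two or three centralizes one of order eleven in a suitable group. -/
theorem no_small_dvd (h55 : ∀ P : Sylow 11 H, Nat.card (Subgroup.normalizer ((P : Subgroup H) : Set H)) = 55)
    (N : Subgroup H) [N.Normal] (h11 : ¬ 11 ∣ Nat.card N) {q : ℕ} (hq : q = 2 ∨ q = 3) :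
    ¬ q ∣ Nat.card N := by
  intro hqN
  haveI : Fact q.Prime := ⟨by rcases hq with r | r <;> rw [r] <;> norm_num⟩
  haveI : Fact (Nat.Prime 11) := ⟨by norm_num⟩
  obtain ⟨Q⟩ : Nonempty (Sylow q N) := inferInstance
  set R := (Q : Subgroup N).map N.subtype with hR
  set L := Subgroup.normalizer (R : Set H) with hL
  have htop : L ⊔ N = ⊤ := Sylow.normalizer_sup_eq_top Q
  have hidx : N.index ∣ Nat.card L := by
    rw [← Subgroup.relIndex_top_right, ← htop, Subgroup.relIndex_sup_right]
    exact Subgroup.index_dvd_card _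
  have h11L : 11 ∣ Nat.card L := by
    refine dvd_trans ?_ hidx
    have := N.index_mul_card
    rw [hH] at this
    exact ((Fact.out : Nat.Prime 11).dvd_mul.1 (show 11 ∣ N.index * Nat.card N from ⟨8640, this⟩)).resolve_right h11
  obtain ⟨⟨x, hxL⟩, hx⟩ := exists_prime_orderOf_dvd_card' (G := L) 11 h11L
  rw [Subgroup.orderOf_mk] at hx
  obtain ⟨k, hk⟩ := IsPGroup.iff_card.1 Q.2
  have hRc : Nat.card R = q ^ k := by
    rw [hR, ← hk, ← Nat.card_congr (Subgroup.equivMapOfInjective _ N.subtype N.subtype_injective).toEquiv]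
  have hk0 : k ≠ 0 := fun e => by
    have := Q.ne_bot_of_dvd_card hqN
    rw [e, pow_zero] at hk
    exact this (Subgroup.card_eq_one.1 hk)
  have hkd : q ^ k ∣ 95040 := hH ▸ hRc ▸ R.card_subgroup_dvd_card
  letI act : MulAction (Subgroup.zpowers x) R :=
    { smul := fun c r => ⟨(c : H) * r.1 * (c : H)⁻¹,
        (Subgroup.mem_normalizer_iff.1 ((Subgroup.zpowers_le.2 hxL) c.2) r.1).1 r.2⟩
      one_smul := fun g => Subtype.ext (show (1 : H) * g.1 * (1 : H)⁻¹ = g.1 by group)
      mul_smul := fun a b g => Subtype.ext (show (a : H) * b * g.1 * ((a : H) * b)⁻¹ =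
        (a : H) * ((b : H) * g.1 * (b : H)⁻¹) * (a : H)⁻¹ by group) }
  have hmod := (IsPGroup.of_card (n := 1) (by rw [Nat.card_zpowers, hx, pow_one]) :
    IsPGroup 11 (Subgroup.zpowers x)).card_modEq_card_fixedPoints R
  rw [hRc] at hmod
  have hcases : (q = 2 ∧ k ≤ 6) ∨ (q = 3 ∧ k ≤ 3) := by
    rcases hq with rfl | rfl
    · exact Or.inl ⟨rfl, by_contra fun h =>
        absurd ((pow_dvd_pow 2 (show 7 ≤ k by omega)).trans hkd) (by norm_num)⟩
    · exact Or.inr ⟨rfl, by_contra fun h =>
        absurd ((pow_dvd_pow 3 (show 4 ≤ k by omega)).trans hkd) (by norm_num)⟩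
  obtain ⟨⟨r, hr⟩, hr1⟩ : ∃ r : MulAction.fixedPoints (Subgroup.zpowers x) R, (r : R) ≠ 1 := by
    by_contra hall
    push Not at hall
    haveI : Subsingleton (MulAction.fixedPoints (Subgroup.zpowers x) R) :=
      ⟨fun a b => Subtype.ext ((hall a).trans (hall b).symm)⟩
    have h1 : (1 : R) ∈ MulAction.fixedPoints (Subgroup.zpowers x) R := fun g =>
      Subtype.ext (show (g : H) * (1 : H) * (g : H)⁻¹ = 1 by group)
    haveI : Nonempty (MulAction.fixedPoints (Subgroup.zpowers x) R) := ⟨⟨1, h1⟩⟩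
    rw [Nat.card_unique, Nat.ModEq] at hmod
    rcases hcases with ⟨rfl, hk'⟩ | ⟨rfl, hk'⟩ <;> interval_cases k <;> omega
  have e : x * (r : H) * x⁻¹ = r := congrArg Subtype.val (hr ⟨x, Subgroup.mem_zpowers x⟩)
  obtain ⟨P, hP⟩ := (IsPGroup.of_card (n := 1) (by rw [Nat.card_zpowers, hx, pow_one]) :
    IsPGroup 11 (Subgroup.zpowers x)).exists_le_sylow
  have hPe : Subgroup.zpowers x = (P : Subgroup H) := Subgroup.eq_of_le_of_card_ge hP (by
    rw [Small.sylow_card (k := 1) (m := 8640) (by rw [hH]; norm_num) (by norm_num) P,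
      Nat.card_zpowers, hx, pow_one])
  have hrN : (r : H) ∈ Subgroup.normalizer ((P : Subgroup H) : Set H) := by
    refine Subgroup.centralizer_le_normalizer _ (Subgroup.mem_centralizer_iff.2 fun z hz => ?_)
    rw [← hPe] at hz
    obtain ⟨j, rfl⟩ := Subgroup.mem_zpowers_iff.1 hz
    exact (Commute.zpow_left (mul_inv_eq_iff_eq_mul.1 e : Commute x (r : H)) j).eq
  have h1 := Subgroup.orderOf_dvd_natCard _ hrN
  rw [h55 P] at h1
  have h2 : orderOf (r : H) ∣ q ^ k := hRc ▸ Subgroup.orderOf_dvd_natCard _ r.2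
  have hcop : Nat.Coprime 55 (q ^ k) := Nat.Coprime.pow_right k (by rcases hq with r | r <;> rw [r] <;> norm_num)
  exact hr1 (Subtype.ext (orderOf_eq_one_iff.1 (Nat.eq_one_of_dvd_coprimes hcop h1 h2)))

/-- A group of order 95040 with the counts of a simple one is simple. -/
theorem simple_of_counts {M : Type*} [Group M] [Finite M] [IsSimpleGroup M] (hM : Nat.card M = 95040)
    (hnse : ∀ n : ℕ, 0 < Nat.card {g : H // orderOf g = n} →
      ∃ n' : ℕ, Nat.card {g : H // orderOf g = n} = Nat.card {g : M // orderOf g = n'}) :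
    IsSimpleGroup H := by
  classical
  haveI : Fact (Nat.Prime 11) := ⟨by norm_num⟩
  haveI : Fact (Nat.Prime 5) := ⟨by norm_num⟩
  have hvals : ∀ {p : ℕ} [Fact p.Prime], p ∣ 95040 → Nat.card {g : H // orderOf g = p} = 1 ∨
      Nat.card {g : H // orderOf g = p} = 17280 ∨ 11 ∣ Nat.card {g : H // orderOf g = p} := by
    intro p _ hp
    obtain ⟨x, hx⟩ := exists_prime_orderOf_dvd_card' (G := H) p (hH.symm ▸ hp)
    obtain ⟨n', hn'⟩ := hnse p (Nat.card_pos_iff.2 ⟨⟨⟨x, hx⟩⟩, inferInstance⟩)
    rw [hn']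
    exact count_cases hM n'
  have hn11 : Nat.card (Sylow 11 H) = 1728 := by
    have h := hvals (p := 11) (by norm_num)
    rw [count_prime (m := 8640) (by rw [hH]) (by norm_num)] at h
    have h1 := card_sylow_modEq_one 11 H
    rw [Nat.ModEq] at h1
    omega
  have h55 : ∀ P : Sylow 11 H, Nat.card (Subgroup.normalizer ((P : Subgroup H) : Set H)) = 55 := by
    intro P
    have h := Small.card_normalizer_mul P
    rw [hn11, hH] at h
    omega
  have hfive : ∀ N : Subgroup H, N.Normal → Nat.card N ≠ 5 := by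
    intro N hN hc
    have h := hvals (p := 5) (by norm_num)
    rw [count_prime (m := 19008) (by rw [hH]) (by norm_num)] at h
    obtain ⟨Q, hQ⟩ := (IsPGroup.of_card (n := 1) (by rw [hc, pow_one]) : IsPGroup 5 N).exists_le_sylow
    have hQe : N = (Q : Subgroup H) := Subgroup.eq_of_le_of_card_ge hQ (by
      rw [hc, Small.sylow_card (k := 1) (m := 19008) (by rw [hH]; norm_num) (by norm_num) Q, pow_one])
    have h1 : Nat.card (Sylow 5 H) = 1 := by
      rw [Q.card_eq_index_normalizer, Subgroup.index_eq_one]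
      show Subgroup.normalizer ((Q : Subgroup H) : Set H) = ⊤
      rw [← hQe]
      exact Subgroup.normalizer_eq_top N
    rw [h1] at h
    omega
  have hcase : ∀ N : Subgroup H, N.Normal → ¬ 11 ∣ Nat.card N → N = ⊥ := by
    intro N hN h11
    have h2 := no_small_dvd hH h55 N h11 (Or.inl rfl)
    have h3 := no_small_dvd hH h55 N h11 (Or.inr rfl)
    have hd : Nat.card N ∣ 5 := by
      have hco : (Nat.card N).Coprime (64 * (27 * 11)) := Nat.Coprime.mul_right
        (Nat.Coprime.pow_right 6 ((Nat.prime_two.coprime_iff_not_dvd).2 h2).symm)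
        (Nat.Coprime.mul_right (Nat.Coprime.pow_right 3 ((Nat.prime_three.coprime_iff_not_dvd).2 h3).symm)
          (((by norm_num : Nat.Prime 11).coprime_iff_not_dvd).2 h11).symm)
      exact hco.dvd_of_dvd_mul_left (by simpa using (hH ▸ N.card_subgroup_dvd_card))
    rcases (Nat.dvd_prime (by norm_num)).1 hd with r | r
    · exact Subgroup.card_eq_one.1 r
    · exact absurd r (hfive N hN)
  haveI : Nontrivial H := Finite.one_lt_card_iff_nontrivial.1 (by rw [hH]; norm_num)
  refine ⟨fun N hN => ?_⟩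
  haveI := hN
  by_cases h11 : 11 ∣ Nat.card N
  swap
  · exact Or.inl (hcase N hN h11)
  right
  by_contra htop
  have hNd : Nat.card N ∣ 95040 := hH ▸ N.card_subgroup_dvd_card
  have hall : ∀ g : H, orderOf g = 11 → g ∈ N := fun g hg => by
    have h1 : orderOf (QuotientGroup.mk' N g) ∣ 11 := hg ▸ orderOf_map_dvd _ g
    have h2 : orderOf (QuotientGroup.mk' N g) ∣ N.index := by
      rw [Subgroup.index_eq_card]; exact orderOf_dvd_natCard _
    have h3 : ¬ 11 ∣ N.index := fun hd => by
      have := Nat.mul_dvd_mul hd h11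
      rw [N.index_mul_card, hH] at this
      norm_num at this
    rw [← QuotientGroup.eq_one_iff]
    exact orderOf_eq_one_iff.1 (Nat.eq_one_of_dvd_coprimes
      ((Fact.out : Nat.Prime 11).coprime_iff_not_dvd.2 h3) h1 h2)
  obtain ⟨m, hm⟩ := h11
  have hm11 : ¬ 11 ∣ m := by
    rintro ⟨j, rfl⟩
    have : 11 * 11 ∣ 95040 := dvd_trans ⟨j, by rw [hm]; ring⟩ hNd
    norm_num at this
  have hNn : Nat.card (Sylow 11 N) = 1728 := by
    have h := count_prime (H := N) hm hm11
    rw [Nat.card_congr (show {g : N // orderOf g = 11} ≃ {g : H // orderOf g = 11} from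
      { toFun := fun g => ⟨g.1.1, by rw [Subgroup.orderOf_coe]; exact g.2⟩
        invFun := fun g => ⟨⟨g.1, hall g.1 g.2⟩, by rw [Subgroup.orderOf_mk]; exact g.2⟩
        left_inv := fun g => rfl
        right_inv := fun g => rfl }), count_prime (m := 8640) (by rw [hH]) (by norm_num), hn11] at h
    omega
  obtain ⟨P⟩ : Nonempty (Sylow 11 N) := inferInstance
  have hPc : Nat.card (P : Subgroup N) = 11 := by
    rw [Small.sylow_card (k := 1) (by rw [pow_one, hm]) hm11 P, pow_one]
  have hPN := Small.card_normalizer_mul P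
  rw [hNn] at hPN
  obtain ⟨j, hj⟩ : 11 ∣ Nat.card (Subgroup.normalizer ((P : Subgroup N) : Set N)) :=
    (dvd_of_eq hPc.symm).trans (Subgroup.card_dvd_of_le Subgroup.le_normalizer)
  have hj' : Nat.card N = 19008 * j := by rw [← hPN, hj]; ring
  have hj1 : j = 1 := by
    have hne : Nat.card N ≠ 95040 := fun h => htop (Subgroup.eq_top_of_card_eq N (h.trans hH.symm))
    rw [hj'] at hNd hne
    have : j ∣ 5 := Nat.dvd_of_mul_dvd_mul_left (by norm_num : 0 < 19008) hNd
    rcases (Nat.dvd_prime (by norm_num)).1 this with r | r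
    · exact r
    · omega
  subst hj1
  have hnorm : Subgroup.normalizer ((P : Subgroup N) : Set N) = (P : Subgroup N) :=
    (Subgroup.eq_of_le_of_card_ge Subgroup.le_normalizer (by rw [hj, hPc])).symm
  haveI : IsCyclic (P : Subgroup N) := isCyclic_of_prime_card hPc
  letI := IsCyclic.commGroup (α := (P : Subgroup N))
  have hPC : Subgroup.normalizer ((P : Subgroup N) : Set N) ≤
      Subgroup.centralizer ((P : Subgroup N) : Set N) := fun g hg => by
    rw [hnorm] at hg
    refine Subgroup.mem_centralizer_iff.2 fun z hz => ?_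
    exact congrArg Subtype.val (mul_comm (⟨z, hz⟩ : (P : Subgroup N)) ⟨g, hg⟩)
  set K := (MonoidHom.transferSylow P hPC).ker with hK
  have hKc : Nat.card K = 1728 := by
    have h : Nat.card K * Nat.card (P : Subgroup N) = Nat.card N :=
      (MonoidHom.ker_transferSylow_isComplement' P hPC).card_mul
    rw [hPc, hj'] at h
    omega
  have hKmem : ∀ g : N, ¬ 11 ∣ orderOf g → g ∈ K := fun g hg => by
    rw [hK, MonoidHom.mem_ker]
    exact orderOf_eq_one_iff.1 (Nat.eq_one_of_dvd_coprimes
      ((Fact.out : Nat.Prime 11).coprime_iff_not_dvd.2 hg)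
      ((orderOf_dvd_natCard _).trans (dvd_of_eq hPc)) (orderOf_map_dvd _ g))
  have hKn : (K.map N.subtype).Normal := ⟨fun g hg h => by
    obtain ⟨g', hg', rfl⟩ := Subgroup.mem_map.1 hg
    refine Subgroup.mem_map.2 ⟨⟨h * g' * h⁻¹, hN.conj_mem _ g'.2 h⟩, hKmem _ ?_, rfl⟩
    rw [Subgroup.orderOf_mk, ← MulAut.conj_apply, MulEquiv.orderOf_eq, Subgroup.orderOf_coe]
    intro hd
    have := hd.trans (Subgroup.orderOf_dvd_natCard K hg')
    rw [hKc] at this
    norm_num at this⟩
  have hKmc : Nat.card (K.map N.subtype) = 1728 := by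
    rw [← Nat.card_congr (Subgroup.equivMapOfInjective _ N.subtype N.subtype_injective).toEquiv, hKc]
  have := hcase _ hKn (by rw [hKmc]; norm_num)
  rw [this, Subgroup.card_bot] at hKmc
  omega

end Cfsg.Agent.M12Uniq
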