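import Cfsg.Agent.Lib.M12Uniq.DefectZero

/-!
A simple group of order 95040: the principal block at five.
-/

set_option linter.unusedSectionVars false
set_option linter.style.haveILetI false

namespace Cfsg.Agent.M12Uniq

open Cfsg Cfsg.Agent.Char Cfsg.Agent.Blocks Cfsg.Agent.CCSylow Cfsg.Agent.DefOne

open scoped ComplexConjugate

universe u

variable {G : Type u} [Group G] [Fintype G]

/-- A value at an element which is conjugate to all its coprime powers is a rational integer. -/
theorem exists_int_of_conj_pow {g : G} (h : ∀ k, k.Coprime (orderOf g) → IsConj g (g ^ k))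
    (χ : IrrCharacter G) : ∃ a : ℤ, (χ : G → ℂ) g = a := by
  obtain ⟨q, hq⟩ := CharGalois.eq_rat_of_fixed (irr_isIntegral χ g) fun σ => by
    obtain ⟨k, hk, hσ⟩ := CharGalois.exists_exponent σ.toRingHom (orderOf_pos g).ne'
    obtain ⟨n, ρ, -, hc⟩ := id χ.2
    obtain ⟨M, -, hM, hpow, -⟩ := exists_eigenvalues ρ g
    have e1 := hpow 1
    simp only [pow_one, Multiset.map_id'] at e1
    rw [M11Local.class_eq (IsIrrCharacter.isCharacter χ.2) (h k hk)]
    conv_lhs => rw [← M11Local.class_eq (IsIrrCharacter.isCharacter χ.2) (h k hk), ← congrFun hc g, e1]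
    rw [← congrFun hc (g ^ k), hpow k, map_multiset_sum]
    exact congrArg Multiset.sum (Multiset.map_congr rfl fun z hz => hσ z (hM z hz))
  obtain ⟨a, ha⟩ := exists_int_of_isIntegral (q := q) (hq ▸ irr_isIntegral χ g)
  exact ⟨a, by rw [hq, ha]; push_cast; rfl⟩

/-- The normalizer is transitive on the nontrivial elements when its index over the centralizer is
`p - 1`. -/
theorem conj_transitive {p : ℕ} {P V N : Subgroup G} {e : ℕ} (K : Conf p P V N e) (he : e = p - 1)
    {y z : G} (hy : y ∈ P) (hy1 : y ≠ 1) (hz : z ∈ P) (hz1 : z ≠ 1) :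
    ∃ x ∈ N, x * y * x⁻¹ = z := by
  classical
  haveI : Fintype P := Fintype.ofFinite _
  haveI : Fintype V := Fintype.ofFinite _
  haveI : Fintype N := Fintype.ofFinite _
  haveI : Fintype (P →* ℂˣ) := Fintype.ofFinite _
  set H := (Subgroup.centralizer (P : Set G)).subgroupOf N with hH
  have hC := centralizer_P K hy hy1
  have key : ∀ a b : N, (a⁻¹ * b) ∈ H ↔ (a : G) * y * (a : G)⁻¹ = (b : G) * y * (b : G)⁻¹ := by
    intro a b
    rw [hH, Subgroup.mem_subgroupOf, hC, Subgroup.mem_centralizer_singleton_iff]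
    simp only [Subgroup.coe_mul, Subgroup.coe_inv]
    constructor
    · intro h
      calc (a : G) * y * (a : G)⁻¹ = a * (y * ((a : G)⁻¹ * b)) * (b : G)⁻¹ := by group
        _ = a * (((a : G)⁻¹ * b) * y) * (b : G)⁻¹ := by rw [h]
        _ = _ := by group
    · intro h
      calc (a : G)⁻¹ * b * y = (a : G)⁻¹ * ((b : G) * y * (b : G)⁻¹) * b := by group
        _ = (a : G)⁻¹ * ((a : G) * y * (a : G)⁻¹) * b := by rw [h]
        _ = _ := by group
  let f : N ⧸ H → {w : P // w ≠ 1} := Quotient.lift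
    (fun a : N => (⟨⟨(a : G) * y * (a : G)⁻¹, K.D.hNP a a.2 y hy⟩, fun h => hy1 (by
      simpa using congrArg Subtype.val h)⟩ : {w : P // w ≠ 1}))
    fun a b hab => Subtype.ext (Subtype.ext ((key a b).1 (QuotientGroup.leftRel_apply.1 hab)))
  have hinj : Function.Injective f := by
    rintro ⟨a⟩ ⟨b⟩ hab
    exact Quotient.sound (QuotientGroup.leftRel_apply.2
      ((key a b).2 (congrArg (fun w : {w : P // w ≠ 1} => ((w : P) : G)) hab)))
  have hcard : Nat.card {w : P // w ≠ 1} ≤ Nat.card (N ⧸ H) := by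
    rw [← Subgroup.index_eq_card, hH, K.D.he, he, Nat.card_eq_fintype_card,
      Fintype.card_subtype_compl, Fintype.card_subtype_eq, ← Nat.card_eq_fintype_card, K.hP]
  obtain ⟨q, hq⟩ := ((Nat.bijective_iff_injective_and_card f).2
    ⟨hinj, le_antisymm (Nat.card_le_card_of_injective f hinj) hcard⟩).2
    ⟨⟨z, hz⟩, fun h => hz1 (congrArg Subtype.val h)⟩
  induction q using QuotientGroup.induction_on with
  | H a => exact ⟨a, a.2, congrArg (fun w : {w : P // w ≠ 1} => ((w : P) : G)) hq⟩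

variable [IsSimpleGroup G] (hG : Nat.card G = 95040)

include hG

/-- The index at five. -/
theorem five_conf
    (hdeg : ∀ χ : IrrCharacter G, χ ≠ principal G → 11 ∣ charDegree (χ : G → ℂ) ∨
      charDegree (χ : G → ℂ) ∈ [16, 32, 45, 54, 120, 144, 160]) :
    ∃ (P : Sylow 5 G) (V : Subgroup G),
      Conf 5 (P : Subgroup G) V (Subgroup.normalizer ((P : Subgroup G) : Set G)) 4 ∧
      ∃ n, n % 5 = 1 ∧ n * (4 * Nat.card V) = 19008 := by
  classical
  haveI : Fact (Nat.Prime 5) := ⟨by norm_num⟩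
  obtain ⟨M, hM⟩ := exists_isPModular_witness 5
  haveI := IsPModular.isPrime hM
  obtain ⟨P, V, e, K, he, n, hn5, hn⟩ := exists_five_config hG
  rcases he with rfl | rfl
  swap
  · exact ⟨P, V, K, n, hn5, hn⟩
  exfalso
  haveI : Fintype (P : Subgroup G) := Fintype.ofFinite _
  haveI : Fintype V := Fintype.ofFinite _
  haveI : Fintype (Subgroup.normalizer ((P : Subgroup G) : Set G)) := Fintype.ofFinite _
  haveI : Fintype ((P : Subgroup G) →* ℂˣ) := Fintype.ofFinite _
  obtain ⟨eb, X, Y, δ, sg, F⟩ := exists_families K hM (trivB V)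
  obtain ⟨hXc, hYc, hXd, hYd, hrel, hagree, hprin⟩ := families_facts hM (by norm_num) K F
  obtain ⟨hpX, hpsg⟩ := hprin.resolve_right fun h => by rw [h] at hYc; simp at hYc
  obtain ⟨θ, hθ⟩ := F.nonempty
  obtain ⟨f, hf⟩ : ∃ f, X.erase (principal G) = {f} := Finset.card_eq_one.1 (by
    rw [Finset.card_erase_of_mem hpX, hXc])
  have hfm : f ∈ X.erase (principal G) := by rw [hf]; simp
  obtain ⟨hfp, hfX⟩ := Finset.mem_erase.1 hfm
  have hθp : θ ≠ principal G := fun h => Finset.disjoint_left.1 F.disj hpX (h ▸ hθ)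
  have h := hrel θ hθ
  rw [← Finset.add_sum_erase _ _ hpX, hf, Finset.sum_singleton, hpsg,
    show charDegree (principal G : G → ℂ) = 1 from Cfsg.Agent.CharX.charDegree_one] at h
  have h1 := hXd f hfX
  have h2 := hYd θ hθ
  rw [Int.ModEq] at h1 h2
  have h143 : charDegree (θ : G → ℂ) ≠ 143 := fun e => by
    have := (deg_facts hG θ).2; rw [e] at this; norm_num at this
  have h143' : charDegree (f : G → ℂ) ≠ 143 := fun e => by
    have := (deg_facts hG f).2; rw [e] at this; norm_num at this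
  have a1 := hdeg f hfp
  have a2 := hdeg θ hθp
  simp only [List.mem_cons, List.not_mem_nil, or_false] at a1 a2
  push_cast at h1 h2
  rcases F.signX f hfX with e1 | e1 <;> rcases F.sign with e2 | e2 <;> rw [e1] at h h1 <;>
    rw [e2] at h h2 <;> omega

/-- The pattern with a pair of degree 160 does not occur. -/
theorem not_oneSixty {x : G} {c₁ c₂ c₃ c₄ θ θ' : IrrCharacter G} {δ : ℤ}
    (E : Eleven x c₁ c₂ c₃ c₄ θ θ' 32 45 54 120 160 δ) : False := by
  classical
  haveI : Fact (Nat.Prime 5) := ⟨by norm_num⟩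
  have hp1 : charDegree (principal G : G → ℂ) = 1 := Cfsg.Agent.CharX.charDegree_one
  have hall : ∀ χ : IrrCharacter G, χ ≠ principal G → 11 ∣ charDegree (χ : G → ℂ) ∨ χ = c₁ ∨ χ = c₂ ∨
      χ = c₃ ∨ χ = c₄ ∨ χ = θ ∨ χ = θ' := fun χ hne => by
    by_cases h : χ ∈ [principal G, c₁, c₂, c₃, c₄, θ, θ']
    · simp only [List.mem_cons, List.not_mem_nil, or_false] at h
      exact Or.inr (h.resolve_left hne)
    · exact Or.inl (E.others χ h).1
  obtain ⟨P, V, K, -, -, -⟩ := five_conf hG fun χ hne => by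
    rcases hall χ hne with h | rfl | rfl | rfl | rfl | rfl | rfl
    · exact Or.inl h
    all_goals simp [E.deg₁, E.deg₂, E.deg₃, E.deg₄, E.degθ, E.degθ']
  obtain ⟨M, hM⟩ := exists_isPModular_witness 5
  haveI := IsPModular.isPrime hM
  haveI : Fintype (P : Subgroup G) := Fintype.ofFinite _
  haveI : Fintype V := Fintype.ofFinite _
  haveI : Fintype (Subgroup.normalizer ((P : Subgroup G) : Set G)) := Fintype.ofFinite _
  haveI : Fintype ((P : Subgroup G) →* ℂˣ) := Fintype.ofFinite _
  obtain ⟨eb, X, Y, δ', sg, F⟩ := exists_families K hM (trivB V)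
  obtain ⟨hXc, hYc, hXd, hYd, hrel, hagree, hprin⟩ := families_facts hM (by norm_num) K F
  obtain ⟨θ₅, hY⟩ : ∃ a, Y = {a} := Finset.card_eq_one.1 (by omega)
  set ε : IrrCharacter G → ℤ := fun χ => if χ ∈ X then sg χ else δ' with hε
  have hθX : θ₅ ∉ X := fun h => Finset.disjoint_left.1 F.disj h (by rw [hY]; simp)
  have hB : ∀ χ ∈ insert θ₅ X, (ε χ = 1 ∨ ε χ = -1) ∧ (5 : ℤ) ∣ (charDegree (χ : G → ℂ) : ℤ) - ε χ := by
    intro χ hχ
    rcases Finset.mem_insert.1 hχ with rfl | h
    · simp only [hε, if_neg hθX]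
      refine ⟨F.sign, ?_⟩
      have := hYd χ (by rw [hY]; simp)
      rw [Int.modEq_iff_dvd] at this
      obtain ⟨q, hq⟩ := this
      exact ⟨-q - δ', by push_cast at hq; linarith⟩
    · simp only [hε, if_pos h]
      exact ⟨F.signX χ h, (Int.modEq_iff_dvd.1 (hXd χ h).symm)⟩
  have hsum : ∑ χ ∈ insert θ₅ X, ε χ * (charDegree (χ : G → ℂ) : ℤ) = 0 := by
    rw [Finset.sum_insert hθX]
    simp only [hε, if_neg hθX]
    rw [Finset.sum_congr rfl fun χ hχ => by rw [if_pos hχ], add_comm]
    exact hrel θ₅ (by rw [hY]; simp)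
  obtain ⟨hpB, hpε⟩ : principal G ∈ insert θ₅ X ∧ ε (principal G) = 1 := by
    rcases hprin with ⟨h, h'⟩ | h
    · exact ⟨Finset.mem_insert_of_mem h, by simp only [hε, if_pos h, h']⟩
    · obtain rfl : θ₅ = principal G := Finset.singleton_inj.1 (hY ▸ h)
      refine ⟨Finset.mem_insert_self _ _, ?_⟩
      simp only [hε, if_neg hθX]
      have := hYd (principal G) (by rw [hY]; simp)
      rw [hp1, Int.ModEq] at this
      rcases F.sign with e | e <;> rw [e] at this ⊢ <;> norm_num at this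
  rw [← Finset.add_sum_erase _ _ hpB, hpε, hp1] at hsum
  -- a term which is not a multiple of eleven comes from the degree fifty-four
  have hterm : ∀ χ ∈ (insert θ₅ X).erase (principal G), χ ≠ c₃ →
      (11 : ℤ) ∣ ε χ * (charDegree (χ : G → ℂ) : ℤ) := by
    intro χ hχ hne
    obtain ⟨hp, hm⟩ := Finset.mem_erase.1 hχ
    obtain ⟨hs, h5⟩ := hB χ hm
    rcases hall χ hp with h | rfl | rfl | rfl | rfl | rfl | rfl
    · exact dvd_mul_of_dvd_right (by exact_mod_cast h) _
    all_goals first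
      | exact absurd rfl hne
      | (exfalso; simp only [E.deg₁, E.deg₂, E.deg₄, E.degθ, E.degθ'] at h5
         rcases hs with e | e <;> rw [e] at h5 <;> omega)
  by_cases h54 : c₃ ∈ (insert θ₅ X).erase (principal G)
  · obtain ⟨hs, h5⟩ := hB c₃ (Finset.mem_of_mem_erase h54)
    have hd : (11 : ℤ) ∣ ∑ χ ∈ ((insert θ₅ X).erase (principal G)).erase c₃,
        ε χ * (charDegree (χ : G → ℂ) : ℤ) :=
      Finset.dvd_sum fun χ hχ => hterm χ (Finset.mem_of_mem_erase hχ) (Finset.ne_of_mem_erase hχ)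
    rw [← Finset.add_sum_erase _ _ h54, E.deg₃] at hsum
    rw [E.deg₃] at h5
    rcases hs with e | e <;> rw [e] at h5 hsum <;> push_cast at h5 hsum <;> omega
  · have hd : (11 : ℤ) ∣ ∑ χ ∈ (insert θ₅ X).erase (principal G),
        ε χ * (charDegree (χ : G → ℂ) : ℤ) :=
      Finset.dvd_sum fun χ hχ => hterm χ hχ fun e => h54 (e ▸ hχ)
    push_cast at hsum
    omega

end Cfsg.Agent.M12Uniq
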