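import Mathlib.RepresentationTheory.Basic
import Mathlib.RingTheory.Artinian.Module
import Mathlib.RingTheory.Artinian.Ring
import Mathlib.LinearAlgebra.FreeModule.Finite.Matrix
import Mathlib.RingTheory.Nilpotent.Lemmas
import Mathlib.RingTheory.Algebraic.Integral
import Mathlib.FieldTheory.IsAlgClosed.Basic
import Mathlib.Analysis.Complex.Polynomial.Basic
import Mathlib.LinearAlgebra.Dimension.Finite
import Mathlib.RingTheory.FiniteType
import Mathlib.LinearAlgebra.FiniteDimensional.Lemmas

/-!
An irreducible representation with an invariant form and an invariant product, subject to a quadratic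
identity, gives a transitive action on one point more than the dimension.
-/

namespace Cfsg.Agent.M12Uniq

open Module

universe u v

/-- A representation with a symmetric invariant form, an associative invariant product, and the
identity which makes the unital extension associative. -/
structure AlgData (G : Type u) [Group G] (V : Type v) [AddCommGroup V] [Module ℂ V] where
  rho : Representation ℂ G V
  form : V →ₗ[ℂ] V →ₗ[ℂ] ℂ
  prd : V →ₗ[ℂ] V →ₗ[ℂ] V
  coef : ℂ
  form_symm : ∀ a c, form a c = form c a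
  form_inv : ∀ g a c, form (rho g a) (rho g c) = form a c
  form_nd : ∀ a, (∀ c, form a c = 0) → a = 0
  prd_symm : ∀ a c, prd a c = prd c a
  prd_inv : ∀ g a c, prd (rho g a) (rho g c) = rho g (prd a c)
  prd_ne : prd ≠ 0
  assoc_form : ∀ a c d, form (prd a c) d = form a (prd c d)
  quad : ∀ a b c d, coef * (form a b * form c d - form a d * form c b) +
    (form (prd a b) (prd c d) - form (prd a d) (prd c b)) = 0
  irred : ∀ W : Submodule ℂ V, (∀ g, ∀ w ∈ W, rho g w ∈ W) → W = ⊥ ∨ W = ⊤
  no_fixed : ∀ a, (∀ g, rho g a = a) → a = 0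

variable {G : Type u} [Group G] {V : Type v} [AddCommGroup V] [Module ℂ V]

/-- The unital extension. -/
def AlgExt (_ : AlgData G V) : Type v := ℂ × V

namespace AlgData

variable (D : AlgData G V)

noncomputable instance : AddCommGroup (AlgExt D) := inferInstanceAs (AddCommGroup (ℂ × V))

noncomputable instance : Module ℂ (AlgExt D) := inferInstanceAs (Module ℂ (ℂ × V))

instance [FiniteDimensional ℂ V] : FiniteDimensional ℂ (AlgExt D) :=
  inferInstanceAs (FiniteDimensional ℂ (ℂ × V))

/-- An element of the extension. -/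
def pair (x : ℂ) (a : V) : AlgExt D := (x, a)

theorem prd_assoc (a b c : V) :
    D.coef • (D.form a b • c) + D.prd (D.prd a b) c = D.coef • (D.form b c • a) + D.prd a (D.prd b c) := by
  rw [← sub_eq_zero]
  refine D.form_nd _ fun d => ?_
  have h := D.quad a b c d
  have h1 : D.form (D.prd (D.prd a b) c) d = D.form (D.prd a b) (D.prd c d) := D.assoc_form _ _ _
  have h2 : D.form (D.prd a (D.prd b c)) d = D.form (D.prd a d) (D.prd c b) := by
    rw [D.prd_symm a, D.assoc_form, D.form_symm, D.prd_symm b c]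
  simp only [map_add, map_sub, map_smul, LinearMap.add_apply, LinearMap.sub_apply, LinearMap.smul_apply,
    smul_eq_mul, h1, h2]
  rw [D.form_symm b c]
  linear_combination h

noncomputable instance : Mul (AlgExt D) :=
  ⟨fun u w => (u.1 * w.1 + D.coef * D.form u.2 w.2, u.1 • w.2 + w.1 • u.2 + D.prd u.2 w.2)⟩

noncomputable instance : One (AlgExt D) := ⟨(1, 0)⟩

theorem mul_def (u w : AlgExt D) : u * w =
    (u.1 * w.1 + D.coef * D.form u.2 w.2, u.1 • w.2 + w.1 • u.2 + D.prd u.2 w.2) := rfl

theorem one_def : (1 : AlgExt D) = ((1 : ℂ), (0 : V)) := rfl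

theorem ext_iff' {u w : AlgExt D} : u = w ↔ u.1 = w.1 ∧ u.2 = w.2 := Prod.ext_iff

@[simp] theorem fst_mul (u w : AlgExt D) : (u * w).1 = u.1 * w.1 + D.coef * D.form u.2 w.2 := rfl
@[simp] theorem snd_mul (u w : AlgExt D) :
    (u * w).2 = u.1 • w.2 + w.1 • u.2 + D.prd u.2 w.2 := rfl
@[simp] theorem fst_one : (1 : AlgExt D).1 = 1 := rfl
@[simp] theorem snd_one : (1 : AlgExt D).2 = 0 := rfl
@[simp] theorem fst_zero : (0 : AlgExt D).1 = 0 := rfl
@[simp] theorem snd_zero : (0 : AlgExt D).2 = 0 := rfl
@[simp] theorem fst_add (u w : AlgExt D) : (u + w).1 = u.1 + w.1 := rfl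
@[simp] theorem snd_add (u w : AlgExt D) : (u + w).2 = u.2 + w.2 := rfl
@[simp] theorem fst_smul (r : ℂ) (u : AlgExt D) : (r • u).1 = r * u.1 := rfl
@[simp] theorem snd_smul (r : ℂ) (u : AlgExt D) : (r • u).2 = r • u.2 := rfl

noncomputable instance : CommRing (AlgExt D) :=
  { (inferInstance : AddCommGroup (AlgExt D)), (inferInstance : Mul (AlgExt D)),
    (inferInstance : One (AlgExt D)) with
    left_distrib := fun u w z => by
      refine (D.ext_iff').2 ⟨?_, ?_⟩
      · simp only [fst_mul, fst_add, snd_add, map_add]; ring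
      · simp only [snd_mul, fst_add, snd_add, map_add]; module
    right_distrib := fun u w z => by
      refine (D.ext_iff').2 ⟨?_, ?_⟩
      · simp only [fst_mul, fst_add, snd_add, map_add, LinearMap.add_apply]; ring
      · simp only [snd_mul, fst_add, snd_add, map_add, LinearMap.add_apply]; module
    zero_mul := fun u => by
      refine (D.ext_iff').2 ⟨?_, ?_⟩ <;> simp
    mul_zero := fun u => by
      refine (D.ext_iff').2 ⟨?_, ?_⟩ <;> simp
    one_mul := fun u => by
      refine (D.ext_iff').2 ⟨?_, ?_⟩ <;> simp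
    mul_one := fun u => by
      refine (D.ext_iff').2 ⟨?_, ?_⟩ <;> simp
    mul_comm := fun u w => by
      refine (D.ext_iff').2 ⟨?_, ?_⟩
      · simp only [fst_mul, D.form_symm u.2]; ring
      · simp only [snd_mul, D.prd_symm u.2]; module
    mul_assoc := fun u w z => by
      refine (D.ext_iff').2 ⟨?_, ?_⟩
      · simp only [fst_mul, snd_mul, map_add, map_smul, LinearMap.add_apply, LinearMap.smul_apply,
          smul_eq_mul, D.assoc_form]
        ring
      · simp only [fst_mul, snd_mul, map_add, map_smul, LinearMap.add_apply, LinearMap.smul_apply,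
          add_smul, mul_smul, smul_add]
        linear_combination (norm := module) D.prd_assoc u.2 w.2 z.2 }

noncomputable instance : Algebra ℂ (AlgExt D) := Algebra.ofModule
  (fun r u w => by
    refine (D.ext_iff').2 ⟨?_, ?_⟩
    · simp only [fst_mul, fst_smul, snd_smul, map_smul, LinearMap.smul_apply, smul_eq_mul]; ring
    · simp only [snd_mul, fst_smul, snd_smul, map_smul, LinearMap.smul_apply]; module)
  (fun r u w => by
    refine (D.ext_iff').2 ⟨?_, ?_⟩
    · simp only [fst_mul, fst_smul, snd_smul, map_smul, LinearMap.smul_apply, smul_eq_mul]; ring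
    · simp only [snd_mul, fst_smul, snd_smul, map_smul, LinearMap.smul_apply]; module)

@[simp] theorem fst_pair (x : ℂ) (a : V) : (D.pair x a).1 = x := rfl
@[simp] theorem snd_pair (x : ℂ) (a : V) : (D.pair x a).2 = a := rfl

/-- The action on the extension. -/
noncomputable def act (g : G) : AlgExt D →ₐ[ℂ] AlgExt D :=
  AlgHom.ofLinearMap
    { toFun := fun u => D.pair u.1 (D.rho g u.2)
      map_add' := fun u w => by refine (D.ext_iff').2 ⟨?_, ?_⟩ <;> simp
      map_smul' := fun r u => by refine (D.ext_iff').2 ⟨?_, ?_⟩ <;> simp }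
    (by refine (D.ext_iff').2 ⟨?_, ?_⟩ <;> simp)
    (fun u w => by refine (D.ext_iff').2 ⟨?_, ?_⟩ <;> simp [D.form_inv, D.prd_inv])

@[simp] theorem act_fst (g : G) (u : AlgExt D) : (D.act g u).1 = u.1 := rfl
@[simp] theorem act_snd (g : G) (u : AlgExt D) : (D.act g u).2 = D.rho g u.2 := rfl

theorem act_comp (g h : G) (u : AlgExt D) : D.act g (D.act h u) = D.act (g * h) u := by
  refine (D.ext_iff').2 ⟨rfl, ?_⟩
  simp [map_mul]

theorem act_one (u : AlgExt D) : D.act 1 u = u := by
  refine (D.ext_iff').2 ⟨rfl, ?_⟩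
  simp

variable [Finite G] [FiniteDimensional ℂ V]

theorem invariant_cases (N : Submodule ℂ (AlgExt D)) (hN : ∀ g, ∀ u ∈ N, D.act g u ∈ N)
    (h1 : (1 : AlgExt D) ∉ N) :
    (∀ u ∈ N, u.1 = 0) ∧ (N = ⊥ ∨ ∀ a : V, D.pair 0 a ∈ N) := by
  classical
  have := Fintype.ofFinite G
  have hfst : ∀ u ∈ N, u.1 = 0 := by
    intro u hu
    by_contra hne
    set s : AlgExt D := ∑ g : G, D.act g u with hs
    have hsN : s ∈ N := Submodule.sum_mem _ fun g _ => hN g u hu
    have hfix : ∀ h, D.act h s = s := by
      intro h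
      rw [hs, map_sum]
      exact Fintype.sum_equiv (Equiv.mulLeft h) _ _ fun g => D.act_comp h g u
    have h2 : s.2 = 0 := D.no_fixed _ fun h => (congrArg Prod.snd (hfix h) : _)
    have h1' : s.1 = (Fintype.card G : ℂ) * u.1 := by
      have : s.1 = ∑ g : G, (D.act g u).1 :=
        map_sum (LinearMap.fst ℂ ℂ V : AlgExt D →ₗ[ℂ] ℂ) _ _
      simpa using this
    refine h1 ?_
    have : (1 : AlgExt D) = ((Fintype.card G : ℂ) * u.1)⁻¹ • s := by
      refine (D.ext_iff').2 ⟨?_, ?_⟩
      · rw [fst_smul, h1', inv_mul_cancel₀ (mul_ne_zero (Nat.cast_ne_zero.2 Fintype.card_ne_zero) hne)]; rfl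
      · simp [h2]
    rw [this]
    exact N.smul_mem _ hsN
  refine ⟨hfst, ?_⟩
  let W : Submodule ℂ V := N.map (LinearMap.snd ℂ ℂ V : AlgExt D →ₗ[ℂ] V)
  rcases D.irred W (by
    rintro g _ ⟨u, hu, rfl⟩
    exact ⟨D.act g u, hN g u hu, rfl⟩) with h | h
  · left
    refine (Submodule.eq_bot_iff _).2 fun u hu => (D.ext_iff').2 ⟨hfst u hu, ?_⟩
    have : u.2 ∈ W := ⟨u, hu, rfl⟩
    simpa [h] using this
  · right
    intro a
    obtain ⟨u, hu, hua⟩ : a ∈ W := h ▸ Submodule.mem_top
    have : D.pair 0 a = u := (D.ext_iff').2 ⟨(hfst u hu).symm, hua.symm⟩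
    rwa [this]

theorem isReduced : IsReduced (AlgExt D) := by
  have : IsArtinianRing (AlgExt D) := .of_finite ℂ (AlgExt D)
  set N : Ideal (AlgExt D) := nilradical (AlgExt D) with hN
  have hnil : IsNilpotent N := IsArtinianRing.isNilpotent_nilradical
  have h1N : (1 : AlgExt D) ∉ N := by
    rw [hN, mem_nilradical]
    rintro ⟨k, hk⟩
    rw [one_pow] at hk
    exact one_ne_zero (α := ℂ) (congrArg Prod.fst hk)
  obtain ⟨hfst, hcase⟩ := D.invariant_cases (N.restrictScalars ℂ)
    (fun g u hu => by
      simp only [Submodule.restrictScalars_mem, hN, mem_nilradical] at hu ⊢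
      exact hu.map (D.act g)) h1N
  rcases hcase with h | h
  · refine ⟨fun u hu => ?_⟩
    have : u ∈ N.restrictScalars ℂ := mem_nilradical.2 hu
    rwa [h, Submodule.mem_bot] at this
  · exfalso
    -- the image of the product spans
    let W : Submodule ℂ V := Submodule.span ℂ (Set.range fun p : V × V => D.prd p.1 p.2)
    have hW : W = ⊤ := by
      refine (D.irred W ?_).resolve_left ?_
      · intro g w hw
        induction hw using Submodule.span_induction with
        | mem x hx =>
          obtain ⟨p, rfl⟩ := hx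
          exact Submodule.subset_span ⟨(D.rho g p.1, D.rho g p.2), D.prd_inv g _ _⟩
        | zero => simp
        | add x y _ _ hx hy => rw [map_add]; exact W.add_mem hx hy
        | smul r x _ hx => rw [map_smul]; exact W.smul_mem r hx
      · intro hb
        refine D.prd_ne (LinearMap.ext₂ fun a c => ?_)
        have : D.prd a c ∈ W := Submodule.subset_span ⟨(a, c), rfl⟩
        simpa [hb] using this
    have hsq : N ≤ N * N := by
      intro u hu
      have hu0 : u.1 = 0 := hfst u hu
      have hkey : ∀ a : V, a ∈ W → D.pair 0 a ∈ (N * N).restrictScalars ℂ := by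
        intro a ha
        induction ha using Submodule.span_induction with
        | mem x hx =>
          obtain ⟨p, rfl⟩ := hx
          have hp : D.pair 0 p.1 * D.pair 0 p.2 ∈ N * N := Ideal.mul_mem_mul (h p.1) (h p.2)
          have hf := hfst _ (Ideal.mul_le_right hp)
          have : D.pair 0 (D.prd p.1 p.2) = D.pair 0 p.1 * D.pair 0 p.2 :=
            (D.ext_iff').2 ⟨hf.symm, by simp⟩
          rw [Submodule.restrictScalars_mem, this]; exact hp
        | zero => exact Submodule.zero_mem ((N * N).restrictScalars ℂ)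
        | add x y _ _ hx hy =>
          have : D.pair 0 (x + y) = D.pair 0 x + D.pair 0 y :=
            (D.ext_iff').2 ⟨by simp, by simp⟩
          rw [this]; exact Submodule.add_mem _ hx hy
        | smul r x _ hx =>
          have : D.pair 0 (r • x) = r • D.pair 0 x := (D.ext_iff').2 ⟨by simp, by simp⟩
          rw [this]; exact Submodule.smul_mem _ r hx
      have := hkey u.2 (hW ▸ Submodule.mem_top)
      rwa [show D.pair 0 u.2 = u from (D.ext_iff').2 ⟨hu0.symm, rfl⟩] at this
    obtain ⟨k, hk⟩ := hnil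
    have hpow : ∀ j, N ≤ N ^ (j + 1) := by
      intro j
      induction j with
      | zero => simp
      | succ j ih => exact hsq.trans ((Ideal.mul_mono_left ih).trans (pow_succ N (j + 1)).ge)
    have h0 : ∀ a : V, a = 0 := fun a => by
      have h1 : D.pair 0 a ∈ N ^ (k + 1) := hpow k (h a)
      rw [pow_succ, hk, Submodule.zero_eq_bot, Ideal.bot_mul, Ideal.mem_bot] at h1
      exact congrArg Prod.snd h1
    exact D.prd_ne (LinearMap.ext₂ fun a c => h0 _)

theorem separates (u : AlgExt D) (hu : ∀ f : AlgExt D →ₐ[ℂ] ℂ, f u = 0) : u = 0 := by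
  have := D.isReduced
  have : IsArtinianRing (AlgExt D) := .of_finite ℂ (AlgExt D)
  suffices h : u ∈ nilradical (AlgExt D) by
    rwa [nilradical_eq_zero, Submodule.zero_eq_bot, Ideal.mem_bot] at h
  rw [nilradical_eq_sInf, Submodule.mem_sInf]
  intro (P : Ideal (AlgExt D)) hP
  have hPp : P.IsPrime := hP
  have hmax : P.IsMaximal := inferInstance
  let _ : Field (AlgExt D ⧸ P) := Ideal.Quotient.field P
  have hbij : Function.Bijective (algebraMap ℂ (AlgExt D ⧸ P)) :=
    IsAlgClosed.algebraMap_bijective_of_isIntegral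
  let e : ℂ ≃ₐ[ℂ] AlgExt D ⧸ P := AlgEquiv.ofBijective (Algebra.ofId ℂ _) hbij
  have := hu (e.symm.toAlgHom.comp (Ideal.Quotient.mkₐ ℂ P))
  simp only [AlgHom.comp_apply] at this
  exact Ideal.Quotient.eq_zero_iff_mem.1 ((map_eq_zero_iff _ e.symm.injective).1 this)

/-- A transitive action on one point more than the dimension. -/
theorem exists_action (hfaith : ∀ g, D.rho g = 1 → g = 1) :
    ∃ (X : Type v) (_ : Fintype X) (φ : G →* Equiv.Perm X), Fintype.card X = finrank ℂ V + 1 ∧
      Function.Injective φ ∧ ∀ i j, ∃ g, φ g i = j := by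
  classical
  let X := AlgExt D →ₐ[ℂ] ℂ
  have hli : LinearIndependent ℂ (fun f : X => f.toLinearMap) :=
    linearIndependent_algHom_toLinearMap ℂ (AlgExt D) ℂ
  have : Finite X := hli.finite
  let _ : Fintype X := Fintype.ofFinite X
  let ev : AlgExt D →ₐ[ℂ] (X → ℂ) :=
    AlgHom.ofLinearMap (LinearMap.pi fun f : X => f.toLinearMap) (by ext f; simp)
      (fun u w => by ext f; simp)
  have hev : ∀ u f, ev u f = f u := fun _ _ => rfl
  have hinj : Function.Injective ev := by
    rw [injective_iff_map_eq_zero]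
    exact fun u hu => D.separates u fun f => by rw [← hev, hu]; rfl
  have hdim : finrank ℂ (AlgExt D) = finrank ℂ V + 1 := by
    show finrank ℂ (ℂ × V) = _
    rw [finrank_prod, finrank_self, add_comm]
  have hcard : Fintype.card X = finrank ℂ V + 1 := by
    refine le_antisymm ?_ ?_
    · have := hli.fintype_card_le_finrank
      rwa [finrank_linearMap, finrank_self, mul_one, hdim] at this
    · have := LinearMap.finrank_le_finrank_of_injective (f := ev.toLinearMap) hinj
      rwa [finrank_pi, hdim] at this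
  have hsurj : Function.Surjective ev := by
    refine (LinearMap.injective_iff_surjective_of_finrank_eq_finrank (f := ev.toLinearMap) ?_).1 hinj
    rw [finrank_pi, hdim, hcard]
  let φ : G →* Equiv.Perm X :=
    { toFun := fun g =>
        { toFun := fun f => f.comp (D.act g⁻¹)
          invFun := fun f => f.comp (D.act g)
          left_inv := fun f => by ext u; simp [AlgHom.comp_apply, D.act_comp, D.act_one]
          right_inv := fun f => by ext u; simp [AlgHom.comp_apply, D.act_comp, D.act_one] }
      map_one' := by ext f u; simp [D.act_one]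
      map_mul' := fun g h => by ext f u; simp [AlgHom.comp_apply, D.act_comp, mul_inv_rev] }
  have hφ : ∀ g f u, φ g f u = f (D.act g⁻¹ u) := fun _ _ _ => rfl
  refine ⟨X, inferInstance, φ, hcard, (injective_iff_map_eq_one φ).2 fun g hg => ?_, fun i j => ?_⟩
  · refine inv_eq_one.1 (hfaith g⁻¹ (LinearMap.ext fun a => ?_))
    have : D.act g⁻¹ (D.pair 0 a) = D.pair 0 a := hinj (funext fun f => by
      rw [hev, hev, ← hφ, hg]; rfl)
    exact congrArg Prod.snd this
  · obtain ⟨u, hu⟩ := hsurj (fun f => if ∃ g, φ g i = f then (1 : ℂ) else 0)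
    have hu' : ∀ f : X, f u = if ∃ g, φ g i = f then (1 : ℂ) else 0 := fun f => by
      rw [← hev, hu]
    have hfix : ∀ h, D.act h u = u := fun h => hinj (funext fun f => by
      rw [hev, hev, show f (D.act h u) = φ h⁻¹ f u by rw [hφ, inv_inv], hu', hu']
      refine if_congr ⟨fun ⟨g, hg⟩ => ⟨h * g, ?_⟩, fun ⟨g, hg⟩ => ⟨h⁻¹ * g, ?_⟩⟩ rfl rfl
      · rw [map_mul, Equiv.Perm.mul_apply, hg, ← Equiv.Perm.mul_apply, ← map_mul, mul_inv_cancel, map_one]
        rfl
      · rw [map_mul, Equiv.Perm.mul_apply, hg])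
    have hu2 : u.2 = 0 := D.no_fixed _ fun h => congrArg Prod.snd (hfix h)
    have hscal : u = u.1 • (1 : AlgExt D) := (D.ext_iff').2 ⟨by simp, by simp [hu2]⟩
    have hconst : ∀ f : X, f u = u.1 := fun f => by conv_lhs => rw [hscal]; simp
    have hi : u.1 = 1 := by rw [← hconst i, hu', if_pos ⟨1, by rw [map_one]; rfl⟩]
    by_contra hc
    have := hconst j
    rw [hu', if_neg hc, hi] at this
    exact zero_ne_one this

end AlgData

end Cfsg.Agent.M12Uniq
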