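import Cfsg.Agent.Lib.M12Uniq.ElevenBlock
import Cfsg.Agent.Lib.M12Uniq.Congr

/-!
A simple group of order 95040 has no character of degree five, and one of degree ten only in a
single pattern at eleven.
-/

set_option linter.unusedSectionVars false
set_option linter.style.haveILetI false

namespace Cfsg.Agent.M12Uniq

open Cfsg Cfsg.Agent.Char Cfsg.Agent.Blocks Cfsg.Agent.CCSylow Cfsg.Agent.DefOne

open scoped ComplexConjugate

universe u

/-- A product of divisors leaves only three sizes. -/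
theorem odd_part : ∀ d ∈ ([1, 3, 9, 27] : List ℕ), ∀ e ∈ ([2, 4] : List ℕ), ∀ n < (19009 : ℕ),
    n * (e * d) = 19008 → n % 5 = 1 → d = 9 ∨ d = 27 := by
  intro d hd e he n hn h h5
  simp only [List.mem_cons, List.not_mem_nil, or_false] at hd he
  rcases hd with rfl | rfl | rfl | rfl <;> rcases he with rfl | rfl <;> omega

variable {G : Type u} [Group G] [Fintype G] [IsSimpleGroup G] (hG : Nat.card G = 95040)

include hG

/-- The configuration at five. -/
theorem exists_five_config : ∃ (P : Sylow 5 G) (V : Subgroup G) (e : ℕ),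
    Conf 5 (P : Subgroup G) V (Subgroup.normalizer ((P : Subgroup G) : Set G)) e ∧ (e = 2 ∨ e = 4) ∧
    ∃ n, n % 5 = 1 ∧ n * (e * Nat.card V) = 19008 := by
  classical
  haveI : Fact (Nat.Prime 5) := ⟨by norm_num⟩
  obtain ⟨M, hM⟩ := exists_isPModular_witness 5
  haveI := IsPModular.isPrime hM
  obtain ⟨P, V, e, K, he, n, -, hn5, hn⟩ := exists_config hG (p := 5) (by norm_num) (by norm_num)
  haveI : Fintype (P : Subgroup G) := Fintype.ofFinite _
  haveI : Fintype V := Fintype.ofFinite _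
  haveI : Fintype (Subgroup.normalizer ((P : Subgroup G) : Set G)) := Fintype.ofFinite _
  haveI : Fintype ((P : Subgroup G) →* ℂˣ) := Fintype.ofFinite _
  refine ⟨P, V, e, K, ?_, n, hn5, ?_⟩
  swap
  · have : 5 * (n * (e * Nat.card V)) = 5 * 19008 := by linear_combination hn
    omega
  have he' : e = 1 ∨ e = 2 ∨ e = 4 := by
    have := Nat.le_of_dvd (by norm_num) he
    interval_cases e <;> first | omega | norm_num at he
  refine he'.resolve_left ?_
  rintro rfl
  obtain ⟨eb, X, Y, δ, sg, F⟩ := exists_families K hM (trivB V)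
  obtain ⟨hXc, hYc, hXd, hYd, hrel, hagree, hprin⟩ := families_facts hM (by norm_num) K F
  obtain ⟨θ, hθ⟩ := F.nonempty
  obtain ⟨hpX, hpsg⟩ := hprin.resolve_right fun h => by rw [h] at hYc; simp at hYc
  have h := hrel θ hθ
  obtain ⟨a, ha⟩ := Finset.card_eq_one.1 hXc
  rw [ha, Finset.mem_singleton] at hpX
  rw [ha, Finset.sum_singleton, ← hpX, hpsg,
    show charDegree (principal G : G → ℂ) = 1 from Cfsg.Agent.CharX.charDegree_one] at h
  have h1 : charDegree (θ : G → ℂ) = 1 := by
    rcases F.sign with e1 | e1 <;> rw [e1] at h <;> omega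
  refine Finset.disjoint_left.1 F.disj (show principal G ∈ X by rw [ha, hpX]; simp) ?_
  rw [← eq_principal hG h1]; exact hθ

omit hG in
/-- A character of defect zero at five on the centralizer of an element of order five. -/
theorem five_times {P : Sylow 5 G} {V : Subgroup G} {e : ℕ}
    (K : Conf 5 (P : Subgroup G) V (Subgroup.normalizer ((P : Subgroup G) : Set G)) e)
    (χ : IrrCharacter G) (h5 : 5 ∣ charDegree (χ : G → ℂ)) :
    ∃ ψ : V → ℂ, IsCharacter V ψ ∧ ∀ v : V, (χ : G → ℂ) v = 5 * ψ v := by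
  classical
  haveI : Fact (Nat.Prime 5) := ⟨by norm_num⟩
  obtain ⟨M, hM⟩ := exists_isPModular_witness 5
  haveI := IsPModular.isPrime hM
  haveI : Fintype (P : Subgroup G) := Fintype.ofFinite _
  haveI : Fintype V := Fintype.ofFinite _
  haveI : Fintype (Subgroup.normalizer ((P : Subgroup G) : Set G)) := Fintype.ofFinite _
  haveI : Fintype ((P : Subgroup G) →* ℂˣ) := Fintype.ofFinite _
  obtain ⟨ψ, hψ, hv⟩ := exists_fixed_character (IsIrrCharacter.isCharacter χ.2) (P : Subgroup G) V K.D.pv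
  refine ⟨ψ, hψ, fun v => ?_⟩
  have h := hv v
  rw [K.hP, ← Finset.add_sum_erase _ _ (Finset.mem_univ (1 : (P : Subgroup G))),
    Finset.sum_eq_zero fun y hy => section_zero_of_dvd K hM h5 (Finset.ne_of_mem_erase hy) v,
    OneMemClass.coe_one, one_mul, add_zero] at h
  exact_mod_cast h

/-- No character of degree five. -/
theorem deg_ne_five (χ : IrrCharacter G) : charDegree (χ : G → ℂ) ≠ 5 := by
  intro hd
  obtain ⟨P, V, e, K, he, n, hn5, hn⟩ := exists_five_config hG
  obtain ⟨ψ, hψ, hv⟩ := five_times K χ (by rw [hd])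
  have hne : χ ≠ principal G := fun h => by
    rw [h, show charDegree (principal G : G → ℂ) = 1 from Cfsg.Agent.CharX.charDegree_one] at hd
    omega
  have h1 : ψ 1 = 1 := by
    have h := hv 1
    rw [OneMemClass.coe_one, irr_one_eq_charDegree, hd, Nat.cast_ofNat] at h
    linear_combination (-(1 : ℂ) / 5) * h
  obtain ⟨f, hf⟩ := exists_hom_of_degree_one hψ h1
  have hV : Nat.card V = 1 := by
    by_contra hV
    haveI : Nontrivial V := Finite.one_lt_card_iff_nontrivial.1
      (by have : 0 < Nat.card V := Nat.card_pos; omega)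
    obtain ⟨v, hv1⟩ := exists_ne (1 : V)
    refine norm_ne hG hne (g := (v : G)) (fun h => hv1 (Subtype.ext h)) ?_
    have hu : ‖((f v : ℂˣ) : ℂ)‖ = 1 := by
      have hp : ((f v : ℂˣ) : ℂ) ^ Nat.card V = 1 := by
        rw [← Units.val_pow_eq_pow_val, ← map_pow, pow_card_eq_one', map_one, Units.val_one]
      exact Complex.norm_eq_one_of_pow_eq_one hp Nat.card_pos.ne'
    rw [hv v, hf, hd, norm_mul, hu]
    norm_num
  rw [hV, mul_one] at hn
  rcases he with rfl | rfl <;> omega

set_option maxHeartbeats 1600000 in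
/-- A character of degree ten occurs only in one pattern. -/
theorem ten_pattern {x : G} {c₁ c₂ c₃ c₄ θ θ' : IrrCharacter G} {f₁ f₂ f₃ f₄ t : ℕ} {δ : ℤ}
    (E : Eleven x c₁ c₂ c₃ c₄ θ θ' f₁ f₂ f₃ f₄ t δ) (hpat : (f₁, f₂, f₃, f₄, t) ∈ patterns)
    (h11 : ∀ z : G, orderOf z = 11 → Nat.card (Subgroup.centralizer ({z} : Set G)) = 11)
    (h10 : f₁ = 10) : (f₁, f₂, f₃, f₄, t) = (10, 10, 32, 45, 6) := by
  classical
  haveI : Fact (Nat.Prime 5) := ⟨by norm_num⟩
  haveI : Fact (Nat.Prime 2) := ⟨Nat.prime_two⟩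
  haveI : Fact (Nat.Prime 3) := ⟨Nat.prime_three⟩
  haveI : Fact (Nat.Prime 11) := ⟨by norm_num⟩
  have ht5 : t ≠ 5 := fun h => deg_ne_five hG θ (E.degθ.trans h)
  obtain ⟨P, V, e, K, he, n, hn5, hn⟩ := exists_five_config hG
  haveI : Fintype V := Fintype.ofFinite _
  have hd₁ : charDegree (c₁ : G → ℂ) = 10 := E.deg₁.trans h10
  have hne₁ : c₁ ≠ principal G := fun h => by
    rw [h, show charDegree (principal G : G → ℂ) = 1 from Cfsg.Agent.CharX.charDegree_one] at hd₁
    omega
  obtain ⟨ψ, hψ, hv⟩ := five_times K c₁ (by rw [hd₁]; norm_num)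
  -- no involution
  have hodd : ¬ 2 ∣ Nat.card V := by
    intro h2
    obtain ⟨v, hvo⟩ := exists_prime_orderOf_dvd_card' 2 h2
    obtain ⟨a, ha, h4, hlt⟩ := involution_range hG hne₁ (t := (v : G)) (by rw [Subgroup.orderOf_coe, hvo])
    rw [hv v] at ha
    obtain ⟨b, -, hb⟩ := M11Local.int_of_eq (IsCharacter.isIntegral hψ v) (k := 5) (by norm_num) (a := a)
      (by exact_mod_cast ha)
    rw [hd₁, abs_lt] at hlt
    rw [hd₁] at h4
    push_cast at *
    omega
  have hV11 : ¬ 11 ∣ Nat.card V := by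
    intro h
    obtain ⟨z, hz⟩ := exists_prime_orderOf_dvd_card' 11 h
    haveI : Fintype (P : Subgroup G) := Fintype.ofFinite _
    haveI : Fintype ((P : Subgroup G) →* ℂˣ) := Fintype.ofFinite _
    haveI : Fintype (Subgroup.normalizer ((P : Subgroup G) : Set G)) := Fintype.ofFinite _
    obtain ⟨y, hy⟩ := exists_ne_one_P K
    have hy1 : (y : G) ≠ 1 := fun h => hy (Subtype.ext h)
    have hmem : (y : G) ∈ Subgroup.centralizer ({(z : G)} : Set G) :=
      Subgroup.mem_centralizer_singleton_iff.2 (K.D.pv _ y.2 _ z.2)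
    have := Subgroup.orderOf_dvd_natCard _ hmem
    rw [orderOf_P K y.2 hy1, h11 _ (by rw [Subgroup.orderOf_coe, hz])] at this
    norm_num at this
  have hV27 : Nat.card V ∣ 27 := by
    have hco : (Nat.card V).Coprime (64 * 11) := Nat.Coprime.mul_right
      (Nat.Coprime.pow_right 6 ((Nat.prime_two.coprime_iff_not_dvd).2 hodd).symm)
      (((Fact.out : Nat.Prime 11).coprime_iff_not_dvd).2 hV11).symm
    exact hco.dvd_of_dvd_mul_left ⟨n * e, by linarith⟩
  have hV9 : Nat.card V = 9 ∨ Nat.card V = 27 := by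
    refine odd_part _ ?_ e (by rcases he with rfl | rfl <;> simp) n ?_ hn hn5
    · obtain ⟨k, hk, hk'⟩ := (Nat.dvd_prime_pow Nat.prime_three).1 (show Nat.card V ∣ 3 ^ 3 from hV27)
      rw [hk']
      interval_cases k <;> simp
    · have hp : 0 < e * Nat.card V := by
        refine Nat.mul_pos ?_ Nat.card_pos; omega
      have := Nat.le_mul_of_pos_right n hp
      omega
  have hV3 : IsPGroup 3 V := by
    rcases hV9 with h | h
    · exact IsPGroup.of_card (n := 2) h
    · exact IsPGroup.of_card (n := 3) h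
  by_cases huniq : ∀ χ : IrrCharacter G, charDegree (χ : G → ℂ) = 10 → χ = c₁
  · -- a single character of degree ten
    exfalso
    have hval : ∀ v : V, v ≠ 1 → ψ v = -1 := by
      intro v hv1
      obtain ⟨a, ha⟩ := exists_int_of_agree c₁ (v : G) fun χ hχ => by rw [huniq χ (hχ.trans hd₁)]
      obtain ⟨b, hb, hab⟩ := M11Local.int_of_eq (IsCharacter.isIntegral hψ v) (k := 5) (by norm_num)
        (a := a) (by rw [← ha, hv v]; norm_num)
      obtain ⟨k, hk⟩ := IsPGroup.iff_orderOf.1 hV3 v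
      have h3 := dvd_sub_deg (IsIrrCharacter.isCharacter c₁.2) (irr_one_eq_charDegree c₁)
        (g := (v : G)) (by rw [Subgroup.orderOf_coe, hk]) ha
      have hn := norm_ne hG hne₁ (g := (v : G)) (fun h => hv1 (Subtype.ext h))
      have hle := IsIrrCharacter.norm_le c₁.2 (irr_one_eq_charDegree c₁) (v : G)
      rw [ha, Complex.norm_intCast, hd₁] at hn hle
      have hle' : |a| ≤ 10 := by rw [← Int.cast_abs] at hle; exact_mod_cast hle
      have hn' : |a| ≠ 10 := fun h => hn (by rw [← Int.cast_abs, h]; norm_num)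
      rw [hd₁] at h3
      rw [abs_le] at hle'
      have hb' : b = -1 := by
        push_cast at *
        rcases le_or_gt 0 a with h | h
        · rw [abs_of_nonneg h] at hn'; omega
        · rw [abs_of_neg h] at hn'; omega
      rw [hb, hb']; norm_num
    obtain ⟨m, hm⟩ := sum_eq_nat_mul hψ
    have h1 : ψ 1 = 2 := by
      have h := hv 1
      rw [OneMemClass.coe_one, irr_one_eq_charDegree, hd₁, Nat.cast_ofNat] at h
      linear_combination (-(1 : ℂ) / 5) * h
    rw [← Finset.add_sum_erase _ _ (Finset.mem_univ (1 : V)), h1,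
      Finset.sum_congr rfl fun v hv' => hval v (Finset.ne_of_mem_erase hv'), Finset.sum_const,
      Finset.card_erase_of_mem (Finset.mem_univ _), Finset.card_univ, nsmul_eq_mul,
      ← Nat.card_eq_fintype_card] at hm
    have hm' : (2 : ℤ) - ((Nat.card V - 1 : ℕ) : ℤ) = (Nat.card V : ℤ) * m := by
      have : ((2 - ((Nat.card V - 1 : ℕ) : ℤ) : ℤ) : ℂ) = (((Nat.card V : ℤ) * m : ℤ) : ℂ) := by
        rw [← sub_eq_zero] at hm ⊢; rw [← hm]; push_cast; ring
      exact_mod_cast this
    have hnn : (0 : ℤ) ≤ (Nat.card V : ℤ) * m := by positivity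
    omega
  -- several characters of degree ten
  have hcases : (f₁, f₂, f₃, f₄, t) = (10, 10, 32, 45, 6) ∨ (f₁, f₂, f₃, f₄, t) = (10, 10, 10, 45, 16) := by
    push Not at huniq
    obtain ⟨χ, hχ, hne⟩ := huniq
    have hmem : χ ∈ [principal G, c₁, c₂, c₃, c₄, θ, θ'] := by
      by_contra h
      have := (E.others χ h).1
      rw [hχ] at this
      norm_num at this
    simp only [List.mem_cons, List.not_mem_nil, or_false] at hmem
    have h2 : f₂ = 10 ∨ f₃ = 10 ∨ f₄ = 10 ∨ t = 10 := by
      rcases hmem with r | r | r | r | r | r | r <;> subst r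
      · rw [show charDegree (principal G : G → ℂ) = 1 from Cfsg.Agent.CharX.charDegree_one] at hχ; omega
      · exact absurd rfl hne
      · exact Or.inl (E.deg₂.symm.trans hχ)
      · exact Or.inr (Or.inl (E.deg₃.symm.trans hχ))
      · exact Or.inr (Or.inr (Or.inl (E.deg₄.symm.trans hχ)))
      · exact Or.inr (Or.inr (Or.inr (E.degθ.symm.trans hχ)))
      · exact Or.inr (Or.inr (Or.inr (E.degθ'.symm.trans hχ)))
    simp only [patterns, List.mem_cons, List.not_mem_nil, or_false, Prod.mk.injEq] at hpat ⊢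
    omega
  refine hcases.resolve_right fun h => ?_
  simp only [Prod.mk.injEq] at h
  obtain ⟨rfl, rfl, rfl, rfl, rfl⟩ := h
  have hone := E.relation_one
  simp [signDeg] at hone
  obtain rfl : δ = -1 := by omega
  -- a central element of order three
  haveI : Nontrivial V := Finite.one_lt_card_iff_nontrivial.1 (by omega)
  haveI : Nontrivial (Subgroup.center V) := hV3.center_nontrivial
  obtain ⟨w, hw⟩ := exists_prime_orderOf_dvd_card' (G := Subgroup.center V) 3 (by
    obtain ⟨k, hk, hk'⟩ := (IsPGroup.nontrivial_iff_card (hV3.to_subgroup (Subgroup.center V))).1 inferInstance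
    rw [hk']; exact dvd_pow_self 3 hk.ne')
  set r : G := ((w : V) : G) with hrdef
  have hro : orderOf r = 3 := by rw [hrdef, Subgroup.orderOf_coe, Subgroup.orderOf_coe, hw]
  have hr11 : ¬ 11 ∣ orderOf r := by rw [hro]; norm_num
  have hr11' : ¬ 11 ∣ orderOf r⁻¹ := by rw [orderOf_inv, hro]; norm_num
  set C := Nat.card (Subgroup.centralizer ({r} : Set G)) with hC
  set i := (Subgroup.centralizer ({r} : Set G)).index with hi
  have hiC : i * C = 95040 := by rw [hi, hC, Subgroup.index_mul_card, hG]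
  have hC45 : 45 ∣ C := by
    have h5' : 5 ∣ C := by
      rw [hC, ← K.hP]
      exact Subgroup.card_dvd_of_le fun y hy => Subgroup.mem_centralizer_singleton_iff.2
        (K.D.pv y hy _ (w : V).2)
    have h9 : 9 ∣ C := by
      refine dvd_trans ?_ (hC ▸ Subgroup.card_dvd_of_le (H := V) fun v hv' =>
        Subgroup.mem_centralizer_singleton_iff.2 ?_)
      · rcases hV9 with h | h <;> rw [h]; norm_num
      · exact congrArg (fun z : V => (z : G)) (Subgroup.mem_center_iff.1 w.2 ⟨v, hv'⟩)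
    exact Nat.Coprime.mul_dvd_of_dvd_of_dvd (by norm_num : Nat.Coprime 5 9) h5' h9
  have hC11 : ¬ 11 ∣ C := by
    intro h
    rw [hC] at h
    obtain ⟨z, hz⟩ := exists_prime_orderOf_dvd_card' 11 h
    have hmem : r ∈ Subgroup.centralizer ({(z : G)} : Set G) :=
      Subgroup.mem_centralizer_singleton_iff.2 (Subgroup.mem_centralizer_singleton_iff.1 z.2).symm
    have := Subgroup.orderOf_dvd_natCard _ hmem
    rw [hro, h11 _ (by rw [Subgroup.orderOf_coe, hz])] at this
    norm_num at this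
  have hdeg : ∀ χ : IrrCharacter G, ¬ 11 ∣ charDegree (χ : G → ℂ) →
      χ ∈ [principal G, c₁, c₂, c₃, c₄, θ, θ'] := fun χ hχ => by
    by_contra h; exact hχ (E.others χ h).1
  have hdp : charDegree (principal G : G → ℂ) = 1 := Cfsg.Agent.CharX.charDegree_one
  -- the three values
  have hten : ∀ χ : IrrCharacter G, charDegree (χ : G → ℂ) = 10 → ∃ k : ℤ,
      (χ : G → ℂ) r + conj ((χ : G → ℂ) r) = 5 * k ∧ k ≠ 0 := by
    intro χ hχ
    obtain ⟨φ, hφ, hφv⟩ := five_times K χ (by rw [hχ]; norm_num)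
    obtain ⟨m, hm⟩ := M11Local.pow_sum hφ (y := (w : V)) (p := 3) (by rw [Subgroup.orderOf_coe, hw])
      (by norm_num)
    have h1 : φ 1 = 2 := by
      have h := hφv 1
      rw [OneMemClass.coe_one, irr_one_eq_charDegree, hχ, Nat.cast_ofNat] at h
      linear_combination (-(1 : ℂ) / 5) * h
    have h2 : φ ((w : V) ^ 2) = conj (φ (w : V)) := by
      rw [← IsCharacter.inv hφ]
      congr 1
      refine eq_inv_of_mul_eq_one_left ?_
      rw [← pow_succ, orderOf_dvd_iff_pow_eq_one.1 (dvd_of_eq ((Subgroup.orderOf_coe w).trans hw))]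
    simp only [Finset.sum_range_succ, Finset.sum_range_zero, zero_add, pow_zero, pow_one, h1, h2] at hm
    refine ⟨3 * m - 2, ?_, by omega⟩
    rw [hrdef, hφv, map_mul, map_ofNat]
    push_cast at hm ⊢
    linear_combination 5 * hm
  obtain ⟨k₁, hk₁, hk₁'⟩ := hten c₁ E.deg₁
  obtain ⟨k₂, hk₂, hk₂'⟩ := hten c₂ E.deg₂
  obtain ⟨k₃, hk₃, hk₃'⟩ := hten c₃ E.deg₃
  obtain ⟨a, ha⟩ := exists_int_of_agree c₄ r fun χ hχ => by
    rw [E.deg₄] at hχ
    have h := hdeg χ (by rw [hχ]; norm_num)
    simp only [List.mem_cons, List.not_mem_nil, or_false] at h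
    rcases h with r' | r' | r' | r' | r' | r' | r' <;> subst r' <;>
      first
        | rfl
        | (simp only [hdp, E.deg₁, E.deg₂, E.deg₃, E.degθ, E.degθ'] at hχ; omega)
  obtain ⟨b, hb⟩ := exists_int_of_agree θ r fun χ hχ => by
    rw [E.degθ] at hχ
    have h := hdeg χ (by rw [hχ]; norm_num)
    simp only [List.mem_cons, List.not_mem_nil, or_false] at h
    rcases h with r' | r' | r' | r' | r' | r' | r' <;> subst r' <;>
      first
        | rfl
        | exact E.agree r hr11
        | (simp only [hdp, E.deg₁, E.deg₂, E.deg₃, E.deg₄] at hχ; omega)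
  have hrel := E.relation r hr11
  rw [ha, hb] at hrel
  simp [signDeg] at hrel
  have hrel2 : 2 * b = 2 - 5 * (k₁ + k₂ + k₃) + 2 * a := by
    have hc := congrArg conj hrel
    simp only [map_add, map_neg, map_one, map_zero, map_intCast] at hc
    have : ((2 * b : ℤ) : ℂ) = ((2 - 5 * (k₁ + k₂ + k₃) + 2 * a : ℤ) : ℂ) := by
      push_cast
      linear_combination -hrel - hc - hk₁ - hk₂ - hk₃
    exact_mod_cast this
  have ha3 := dvd_sub_deg (p := 3) (IsIrrCharacter.isCharacter c₄.2) (irr_one_eq_charDegree c₄) (g := r)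
    (k := 1) (by rw [hro, pow_one]) ha
  have hb3 := dvd_sub_deg (p := 3) (IsIrrCharacter.isCharacter θ.2) (irr_one_eq_charDegree θ) (g := r)
    (k := 1) (by rw [hro, pow_one]) hb
  have hdv := dvd_index_mul c₄ ha
  have hdvθ := dvd_index_mul θ hb
  rw [E.deg₄] at ha3 hdv
  rw [E.degθ] at hb3 hdvθ
  rw [← hi] at hdv hdvθ
  have hr1 : r ≠ 1 := fun h => by rw [h, orderOf_one] at hro; omega
  have hbound : ∀ (χ : IrrCharacter G) (d : ℕ) (z : ℤ), charDegree (χ : G → ℂ) = d → 1 < d →
      (χ : G → ℂ) r = z → -(d : ℤ) < z ∧ z < d := by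
    intro χ d z hd hd1 hz
    have hn := norm_ne hG (χ := χ) (fun h => by rw [h, hdp] at hd; omega) hr1
    have hle := IsIrrCharacter.norm_le χ.2 (irr_one_eq_charDegree χ) r
    rw [hz, Complex.norm_intCast, hd, ← Int.cast_abs] at hn hle
    have hle' : |z| ≤ (d : ℤ) := by exact_mod_cast hle
    have := lt_of_le_of_ne hle' fun h => hn (by rw [h]; norm_num)
    rwa [abs_lt] at this
  obtain ⟨ha₁, ha₂⟩ := hbound c₄ 45 a E.deg₄ (by norm_num) ha
  obtain ⟨hb₁, hb₂⟩ := hbound θ 16 b E.degθ (by norm_num) hb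
  have hi704 : i ∣ 2112 := by
    obtain ⟨c, hc⟩ := hC45
    refine ⟨c, ?_⟩
    rw [hc] at hiC
    linarith
  have ha15 : (15 : ℤ) ∣ a := by
    obtain ⟨c, hc⟩ := hi704
    have h : (45 : ℤ) ∣ 2112 * a := by
      rw [show (2112 : ℤ) = (i : ℤ) * c by exact_mod_cast hc, mul_comm (i : ℤ), mul_assoc]
      exact dvd_mul_of_dvd_right (by exact_mod_cast hdv) _
    omega
  push_cast at *
  have hb' : b = 1 ∨ b = -14 := by omega
  -- the norm
  have hnorm : ∀ S : List (IrrCharacter G), S.Nodup → ∀ z : IrrCharacter G → ℤ,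
      (∀ χ ∈ S, (χ : G → ℂ) r = z χ) → (S.map fun χ => z χ ^ 2).sum ≤ (C : ℤ) := by
    intro S hS z hz
    have h := sum_sq_le r S.toFinset z fun χ hχ => hz χ (List.mem_toFinset.1 hχ)
    rwa [List.sum_toFinset _ hS, ← hC] at h
  by_cases ha0 : a = 0
  · obtain ⟨m, hm⟩ := structure_count r r⁻¹ x
    rw [E.sum_structure hr11 hr11', IsCharacter.inv (IsIrrCharacter.isCharacter c₁.2),
      IsCharacter.inv (IsIrrCharacter.isCharacter c₂.2), IsCharacter.inv (IsIrrCharacter.isCharacter c₃.2),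
      int_inv (IsIrrCharacter.isCharacter c₄.2) ha, int_inv (IsIrrCharacter.isCharacter θ.2) hb, ha, hb,
      ha0] at hm
    have hre : ∀ (χ : IrrCharacter G) (k : ℤ), (χ : G → ℂ) r + conj ((χ : G → ℂ) r) = 5 * k → k ≠ 0 →
        (25 : ℝ) / 4 ≤ Complex.normSq ((χ : G → ℂ) r) := by
      intro χ k hk hk0
      have h1 : 2 * ((χ : G → ℂ) r).re = 5 * (k : ℝ) := by
        have := congrArg Complex.re hk
        rw [Complex.add_re, Complex.conj_re] at this
        simp at this
        linarith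
      have h2 : (1 : ℝ) ≤ (k : ℝ) ^ 2 := by
        have h3 : (1 : ℤ) ≤ k ^ 2 := by have := Int.one_le_abs hk0; nlinarith [sq_abs k]
        exact_mod_cast h3
      rw [Complex.normSq_apply]
      have h4 : (((χ : G → ℂ) r).re) * (((χ : G → ℂ) r).re) = 25 / 4 * (k : ℝ) ^ 2 := by
        rw [show ((χ : G → ℂ) r).re = 5 / 2 * (k : ℝ) by linarith]; ring
      nlinarith [mul_self_nonneg ((χ : G → ℂ) r).im]
    have h1 := hre c₁ k₁ hk₁ hk₁'
    have h2 := hre c₂ k₂ hk₂ hk₂'
    have h3 := hre c₃ k₃ hk₃ hk₃'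
    set n₁ := Complex.normSq ((c₁ : G → ℂ) r) with hn₁
    set n₂ := Complex.normSq ((c₂ : G → ℂ) r) with hn₂
    set n₃ := Complex.normSq ((c₃ : G → ℂ) r) with hn₃
    rw [show signDeg 10 = -1 from rfl, show signDeg 45 = 1 from rfl, Complex.mul_conj, Complex.mul_conj,
      Complex.mul_conj, ← hn₁, ← hn₂, ← hn₃] at hm
    have hm' : (((m : ℝ) * ((Nat.card (Subgroup.centralizer ({r} : Set G)) : ℝ) *
        (Nat.card (Subgroup.centralizer ({r⁻¹} : Set G)) : ℝ)) : ℝ) : ℂ) =
        (((Nat.card G : ℝ) * (1 - n₁ / 10 - n₂ / 10 - n₃ / 10 - (b : ℝ) * b / 16) : ℝ) : ℂ) := by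
      push_cast at hm ⊢
      linear_combination hm
    have hm'' := Complex.ofReal_injective hm'
    have hCC : (0 : ℝ) ≤ (m : ℝ) * ((Nat.card (Subgroup.centralizer ({r} : Set G)) : ℝ) *
        (Nat.card (Subgroup.centralizer ({r⁻¹} : Set G)) : ℝ)) := by positivity
    rw [hm''] at hCC
    have hGpos : (0 : ℝ) < (Nat.card G : ℝ) := Nat.cast_pos.2 Nat.card_pos
    have hb2 : (0 : ℝ) ≤ (b : ℝ) * b := mul_self_nonneg _
    have hneg : 1 - n₁ / 10 - n₂ / 10 - n₃ / 10 - (b : ℝ) * b / 16 < 0 := by linarith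
    exact absurd hCC (not_le.2 (mul_neg_of_pos_of_neg hGpos hneg))
  · have ha225 : 225 ≤ a ^ 2 := by
      obtain ⟨c, rfl⟩ := ha15
      have : c ≠ 0 := fun h => ha0 (by rw [h, mul_zero])
      have h3 : (1 : ℤ) ≤ c ^ 2 := by have := Int.one_le_abs this; nlinarith [sq_abs c]
      nlinarith
    have hnd : [principal G, c₄, θ, θ'].Nodup := by
      have := E.nodup
      simp only [List.nodup_cons, List.mem_cons, List.not_mem_nil, or_false, not_or, List.nodup_nil,
        and_true, not_false_eq_true] at this ⊢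
      tauto
    have hne4 : c₄ ≠ principal G := fun h => by have := E.deg₄; rw [h, hdp] at this; omega
    have hneθ : θ ≠ principal G := fun h => by have := E.degθ; rw [h, hdp] at this; omega
    have hneθ' : θ' ≠ principal G := fun h => by have := E.degθ'; rw [h, hdp] at this; omega
    have hneθ4 : θ ≠ c₄ := fun h => by have := E.degθ; rw [h, E.deg₄] at this; omega
    have hneθ'4 : θ' ≠ c₄ := fun h => by have := E.degθ'; rw [h, E.deg₄] at this; omega
    have hN := hnorm _ hnd (fun χ => if χ = principal G then 1 else if χ = c₄ then a else b) (by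
      intro χ hχ
      simp only [List.mem_cons, List.not_mem_nil, or_false] at hχ
      rcases hχ with e' | e' | e' | e' <;> subst e'
      · simp [principal]
      · simp [hne4, ha]
      · simp [hneθ, hneθ4, hb]
      · simp [hneθ', hneθ'4, E.agree r hr11, hb])
    simp [hne4, hneθ, hneθ', hneθ4, hneθ'4] at hN
    have h3i : 3 ∣ i := by
      have h' : (45 : ℤ) ∣ (i : ℤ) * a := hdv
      obtain ⟨c, rfl⟩ := ha15
      have : c = 1 ∨ c = 2 ∨ c = -1 ∨ c = -2 := by omega
      rcases this with rfl | rfl | rfl | rfl <;> omega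
    have hcop : ∀ k, C ∣ k * 11 → C ∣ k := fun k hk =>
      (Nat.Coprime.dvd_of_dvd_mul_right (((Fact.out : Nat.Prime 11).coprime_iff_not_dvd).2 hC11).symm hk)
    rcases hb' with rfl | rfl
    · have h48 : 48 ∣ i := by omega
      obtain ⟨c, hc⟩ := h48
      have h180 : C ∣ 180 := hcop 180 ⟨c, by rw [hc] at hiC; linarith⟩
      have := Nat.le_of_dvd (by norm_num) h180
      nlinarith
    · have h24 : 24 ∣ i := by omega
      obtain ⟨c, hc⟩ := h24
      have h360 : C ∣ 360 := hcop 360 ⟨c, by rw [hc] at hiC; linarith⟩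
      have := Nat.le_of_dvd (by norm_num) h360
      nlinarith

end Cfsg.Agent.M12Uniq
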