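import Cfsg.Agent.Lib.M12Uniq.Tools

/-!
A simple group of order 95040: the finite search for the degrees.
-/

set_option linter.unusedSectionVars false
set_option linter.style.haveILetI false

namespace Cfsg.Agent.M12Uniq

/-- All sorted lists with the given number of members of a list. -/
def multiCombos {α : Type*} : List α → ℕ → List (List α)
  | [], n => if n = 0 then [[]] else []
  | a :: l, n => (List.range (n + 1)).flatMap fun j => (multiCombos l (n - j)).map (List.replicate j a ++ ·)

theorem exists_multiCombo {α : Type*} : ∀ (l : List α) (s : Multiset α), (∀ x ∈ s, x ∈ l) →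
    ∃ t ∈ multiCombos l (Multiset.card s), (↑t : Multiset α) = s := by
  classical
  intro l
  induction l with
  | nil =>
    intro s hs
    obtain rfl : s = 0 := Multiset.eq_zero_of_forall_notMem fun x hx => List.not_mem_nil (hs x hx)
    exact ⟨[], by simp [multiCombos], rfl⟩
  | cons a l ih =>
    intro s hs
    obtain ⟨t, ht, hts⟩ := ih (s.filter fun x => ¬ x = a) fun x hx => by
      obtain ⟨hxs, hne⟩ := Multiset.mem_filter.1 hx
      exact (List.mem_cons.1 (hs x hxs)).resolve_left hne
    have hsplit : s.filter (fun x => x = a) + s.filter (fun x => ¬ x = a) = s :=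
      Multiset.filter_add_not _ s
    have hj : s.filter (fun x => x = a) = Multiset.replicate (s.count a) a := Multiset.filter_eq' s a
    have hcard : Multiset.card (s.filter fun x => ¬ x = a) = Multiset.card s - s.count a := by
      have := congrArg Multiset.card hsplit
      rw [Multiset.card_add, hj, Multiset.card_replicate] at this
      omega
    refine ⟨List.replicate (s.count a) a ++ t, ?_, ?_⟩
    · simp only [multiCombos, List.mem_flatMap, List.mem_map, List.mem_range]
      refine ⟨s.count a, Nat.lt_succ_of_le (Multiset.count_le_card a s), t, ?_, rfl⟩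
      rwa [← hcard]
    · rw [← Multiset.coe_add, hts, Multiset.coe_replicate, ← hj, hsplit]

/-- The divisions by eleven of the degrees of the remaining characters. -/
def elevenQuot : List ℕ := [1, 2, 3, 4, 5, 6, 8, 9, 10, 12, 15, 16, 18, 20, 24, 27]

theorem mem_elevenQuot : ∀ k < (29 : ℕ), 11 * k ∣ 95040 → k ∈ elevenQuot := by
  decide

/-- A quotient with a value of absolute value two at the element of order five. -/
theorem two_check : elevenQuot.all (fun p : ℕ => elevenQuot.all fun q : ℕ =>
    ([2, -2] : List ℤ).all fun a : ℤ => ([1, -1] : List ℤ).all fun c : ℤ =>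
    !(decide (((p : ℤ) - a) % 5 = 0) && decide (((q : ℤ) - c) % 5 = 0) &&
      decide (a * p + c * q = 15) && decide (p * p + q * q ≤ 450)) ||
    (decide (p = 12) && decide (a = 2) && decide (q = 9) && decide (c = -1))) = true := by
  decide +kernel

/-- The possible quotients with their values at the involution. -/
def fiveItems : List (ℕ × ℤ) :=
  [(1, -9), (1, -1), (1, 11), (4, -4), (4, 4), (6, -6), (6, 6), (9, -9), (9, -1), (9, 11), (16, -4), (16, 4)]

theorem mem_fiveItems : ∀ k ∈ elevenQuot, ∀ j < (23 : ℕ), (k % 5 = 1 ∨ k % 5 = 4) → k < 22 →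
    ((j : ℤ) - 11) % 5 ∈ ([1, 4] : List ℤ) → (11 * (k : ℤ) - ((j : ℤ) - 11)) % 4 = 0 →
    (72 * ((j : ℤ) - 11)) % (k : ℤ) = 0 → (k, (j : ℤ) - 11) ∈ fiveItems := by
  decide

/-- The sign of the value at the element of order five. -/
def fiveSign (k : ℕ) : ℤ := if k % 5 = 1 then 1 else -1

set_option maxRecDepth 8000 in
/-- The quotients of the five characters. -/
theorem five_check_degrees : ([10, 130] : List ℤ).all (fun R : ℤ => ([4, -4] : List ℤ).all fun w : ℤ =>
    (multiCombos fiveItems 5).all fun t : List (ℕ × ℤ) =>
      !(decide ((t.map fun p => fiveSign p.1 * (p.1 : ℤ)).sum = 15) &&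
        decide ((t.map fun p => p.1 * p.1).sum ≤ 450) && decide ((t.map fun p => p.2 * p.2).sum ≤ R) &&
        decide ((R - (t.map fun p => p.2 * p.2).sum) % 25 = 0) &&
        decide ((t.map fun p => fiveSign p.1 * p.2).sum = 5 - w)) ||
      (decide (R = 130) && (decide (t.map Prod.fst = [1, 1, 6, 9, 16]) ||
        decide (t.map Prod.fst = [4, 6, 6, 9, 16])))) = true := by
  decide +kernel

end Cfsg.Agent.M12Uniq
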