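import Cfsg.Agent.Lib.M12Uniq.ElevenNormalizer

/-!
A simple group of order 95040: the principal block at eleven.
-/

set_option linter.unusedSectionVars false
set_option linter.style.haveILetI false

namespace Cfsg.Agent.M12Uniq

open Cfsg Cfsg.Agent.Char Cfsg.Agent.Blocks Cfsg.Agent.CCSylow Cfsg.Agent.DefOne

open scoped ComplexConjugate

universe u

/-- The degrees of the first family at eleven. -/
def xDegs : List ℕ := [10, 12, 32, 45, 54, 120, 144]

/-- The twenty-six degree patterns at eleven. -/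
def patterns : List (ℕ × ℕ × ℕ × ℕ × ℕ) :=
  [(10, 10, 10, 45, 16), (10, 10, 12, 12, 5), (10, 10, 32, 45, 6), (10, 10, 120, 144, 5),
   (10, 12, 12, 12, 27), (10, 12, 12, 45, 60), (10, 12, 32, 45, 16), (10, 12, 45, 54, 6),
   (10, 12, 45, 120, 72), (10, 12, 120, 144, 27), (10, 45, 45, 54, 27), (10, 45, 54, 54, 72),
   (10, 45, 120, 144, 60), (10, 54, 54, 144, 27), (12, 12, 12, 32, 5), (12, 12, 45, 54, 16),
   (12, 32, 32, 45, 6), (12, 32, 120, 144, 5), (32, 32, 45, 45, 27), (32, 32, 45, 54, 72),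
   (32, 32, 54, 144, 27), (32, 45, 45, 54, 5), (32, 45, 54, 120, 160), (32, 54, 54, 144, 5),
   (45, 45, 45, 120, 16), (45, 54, 120, 144, 16)]

/-- The signed sum `1 + Σ sg f`. -/
def signTotal (a b c d : ℕ) : ℤ :=
  1 + signDeg a * a + signDeg b * b + signDeg c * c + signDeg d * d

/-- Every admissible pattern is listed. -/
theorem patterns_check : xDegs.all (fun a : ℕ => xDegs.all fun b : ℕ => xDegs.all fun c : ℕ => xDegs.all fun d : ℕ =>
    !(Nat.ble a b && Nat.ble b c && Nat.ble c d) ||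
    !([5, 6, 16, 27, 60, 72, 160, 192, 270].contains (signTotal a b c d).natAbs) ||
    !(decide (((signTotal a b c d).natAbs : ℤ) % 11 = (5 * (if 0 < signTotal a b c d then 1 else -1)) % 11)) ||
    !(Nat.ble (1 + a * a + b * b + c * c + d * d + 2 * ((signTotal a b c d).natAbs * (signTotal a b c d).natAbs)) 95040) ||
    patterns.contains (a, b, c, d, (signTotal a b c d).natAbs)) = true := by
  decide +kernel

theorem pattern_mem {a b c d t : ℕ} {δ : ℤ} (ha : a ∈ xDegs) (hb : b ∈ xDegs) (hc : c ∈ xDegs)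
    (hd : d ∈ xDegs) (hab : a ≤ b) (hbc : b ≤ c) (hcd : c ≤ d) (hδ : δ = 1 ∨ δ = -1)
    (ht : t ∈ [5, 6, 16, 27, 60, 72, 160, 192, 270]) (hrel : signTotal a b c d + δ * t = 0)
    (hmod : (t : ℤ) % 11 = (-δ * 5) % 11)
    (hsq : 1 + a * a + b * b + c * c + d * d + 2 * (t * t) ≤ 95040) :
    (a, b, c, d, t) ∈ patterns := by
  have h := List.all_eq_true.1 patterns_check a ha
  have h := List.all_eq_true.1 h b hb
  have h := List.all_eq_true.1 h c hc
  have h := List.all_eq_true.1 h d hd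
  have htpos : 0 < t := by simp only [List.mem_cons, List.not_mem_nil, or_false] at ht; omega
  have e1 : (signTotal a b c d).natAbs = t := by rcases hδ with rfl | rfl <;> omega
  have e2 : (5 : ℤ) * (if 0 < signTotal a b c d then 1 else -1) = -δ * 5 := by
    rcases hδ with rfl | rfl <;> split_ifs <;> omega
  simp only [Bool.or_eq_true, Bool.and_eq_true, Bool.not_eq_true', ← Bool.not_eq_true, Nat.ble_eq,
    List.contains_iff_mem, decide_eq_true_eq, e1, e2] at h
  tauto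

variable {G : Type u} [Group G] [Fintype G]

/-- The characters of the principal block at eleven, with their values. -/
structure Eleven (x : G) (c₁ c₂ c₃ c₄ θ θ' : IrrCharacter G) (f₁ f₂ f₃ f₄ t : ℕ) (δ : ℤ) : Prop where
  order : orderOf x = 11
  cent : Nat.card (Subgroup.centralizer ({x} : Set G)) = 11
  not_real : ¬ IsConj x x⁻¹
  nodup : [principal G, c₁, c₂, c₃, c₄, θ, θ'].Nodup
  sign : δ = 1 ∨ δ = -1
  deg₁ : charDegree (c₁ : G → ℂ) = f₁
  deg₂ : charDegree (c₂ : G → ℂ) = f₂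
  deg₃ : charDegree (c₃ : G → ℂ) = f₃
  deg₄ : charDegree (c₄ : G → ℂ) = f₄
  degθ : charDegree (θ : G → ℂ) = t
  degθ' : charDegree (θ' : G → ℂ) = t
  val₁ : (c₁ : G → ℂ) x = signDeg f₁
  val₂ : (c₂ : G → ℂ) x = signDeg f₂
  val₃ : (c₃ : G → ℂ) x = signDeg f₃
  val₄ : (c₄ : G → ℂ) x = signDeg f₄
  sumθ : (θ : G → ℂ) x + (θ' : G → ℂ) x = δ
  others : ∀ χ : IrrCharacter G, χ ∉ [principal G, c₁, c₂, c₃, c₄, θ, θ'] →
    11 ∣ charDegree (χ : G → ℂ) ∧ (χ : G → ℂ) x = 0
  agree : ∀ g : G, ¬ 11 ∣ orderOf g → (θ' : G → ℂ) g = (θ : G → ℂ) g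
  relation : ∀ g : G, ¬ 11 ∣ orderOf g → 1 + (signDeg f₁ : ℂ) * (c₁ : G → ℂ) g +
    (signDeg f₂ : ℂ) * (c₂ : G → ℂ) g + (signDeg f₃ : ℂ) * (c₃ : G → ℂ) g +
    (signDeg f₄ : ℂ) * (c₄ : G → ℂ) g + (δ : ℂ) * (θ : G → ℂ) g = 0

namespace Eleven

variable {x : G} {c₁ c₂ c₃ c₄ θ θ' : IrrCharacter G} {f₁ f₂ f₃ f₄ t : ℕ} {δ : ℤ}
  (E : Eleven x c₁ c₂ c₃ c₄ θ θ' f₁ f₂ f₃ f₄ t δ)

include E

/-- A sum over all characters with only the seven terms. -/
theorem sum_eq (F : IrrCharacter G → ℂ) (h : ∀ χ : IrrCharacter G, (χ : G → ℂ) x = 0 → F χ = 0) :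
    ∑ χ, F χ = F (principal G) + F c₁ + F c₂ + F c₃ + F c₄ + F θ + F θ' := by
  classical
  rw [← Finset.sum_subset (Finset.subset_univ [principal G, c₁, c₂, c₃, c₄, θ, θ'].toFinset)
    fun χ _ hχ => h χ (E.others χ fun h' => hχ (List.mem_toFinset.2 h')).2,
    List.sum_toFinset _ E.nodup]
  simp only [List.map_cons, List.map_nil, List.sum_cons, List.sum_nil, add_zero]
  ring

/-- The class multiplication sum towards the element of order eleven. -/
theorem sum_structure {g k : G} (hg : ¬ 11 ∣ orderOf g) (hk : ¬ 11 ∣ orderOf k) :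
    ∑ χ : IrrCharacter G, (χ : G → ℂ) g * (χ : G → ℂ) k * conj ((χ : G → ℂ) x) / (χ : G → ℂ) 1 =
      1 + (signDeg f₁ : ℂ) * ((c₁ : G → ℂ) g * (c₁ : G → ℂ) k) / f₁ +
      (signDeg f₂ : ℂ) * ((c₂ : G → ℂ) g * (c₂ : G → ℂ) k) / f₂ +
      (signDeg f₃ : ℂ) * ((c₃ : G → ℂ) g * (c₃ : G → ℂ) k) / f₃ +
      (signDeg f₄ : ℂ) * ((c₄ : G → ℂ) g * (c₄ : G → ℂ) k) / f₄ +
      (δ : ℂ) * ((θ : G → ℂ) g * (θ : G → ℂ) k) / t := by
  rw [E.sum_eq _ fun χ hχ => by rw [hχ, map_zero, mul_zero, zero_div]]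
  have hs : conj ((θ : G → ℂ) x) + conj ((θ' : G → ℂ) x) = (δ : ℂ) := by
    rw [← map_add, E.sumθ, map_intCast]
  simp only [irr_one_eq_charDegree c₁, irr_one_eq_charDegree c₂, irr_one_eq_charDegree c₃,
    irr_one_eq_charDegree c₄, irr_one_eq_charDegree θ, irr_one_eq_charDegree θ', E.deg₁, E.deg₂,
    E.deg₃, E.deg₄, E.degθ, E.degθ', E.val₁, E.val₂, E.val₃, E.val₄, map_intCast,
    E.agree g hg, E.agree k hk]
  simp only [principal, one_mul, map_one, div_one]
  rw [← hs]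
  ring

/-- The relation of the degrees. -/
theorem relation_one : 1 + signDeg f₁ * f₁ + signDeg f₂ * f₂ + signDeg f₃ * f₃ + signDeg f₄ * f₄ +
    δ * (t : ℤ) = 0 := by
  have h := E.relation 1 (by simp)
  rw [irr_one_eq_charDegree, irr_one_eq_charDegree, irr_one_eq_charDegree, irr_one_eq_charDegree,
    irr_one_eq_charDegree, E.deg₁, E.deg₂, E.deg₃, E.deg₄, E.degθ] at h
  exact_mod_cast h

end Eleven

variable [IsSimpleGroup G] (hG : Nat.card G = 95040)

include hG

set_option maxHeartbeats 1600000 in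
/-- The principal block at eleven. -/
theorem exists_eleven : (∀ z : G, orderOf z = 11 → Nat.card (Subgroup.centralizer ({z} : Set G)) = 11) ∧
    (∀ Q : Subgroup G, Nat.card Q = 11 → Nat.card (Subgroup.normalizer (Q : Set G)) ≤ 110) ∧
    ∃ (x : G) (c₁ c₂ c₃ c₄ θ θ' : IrrCharacter G) (f₁ f₂ f₃ f₄ t : ℕ) (δ : ℤ),
      Eleven x c₁ c₂ c₃ c₄ θ θ' f₁ f₂ f₃ f₄ t δ ∧ (f₁, f₂, f₃, f₄, t) ∈ patterns := by
  classical
  haveI : Fact (Nat.Prime 11) := ⟨by norm_num⟩
  have hQP : ∀ Q : Subgroup G, Nat.card Q = 11 → ∃ S : Sylow 11 G, (S : Subgroup G) = Q := by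
    intro Q hQ
    have hfac : (Nat.card G).factorization 11 = 1 := by
      rw [hG, show (95040 : ℕ) = 11 * 8640 by norm_num, Nat.factorization_mul (by norm_num) (by norm_num),
        Finsupp.add_apply, Nat.Prime.factorization_self (by norm_num),
        Nat.factorization_eq_zero_of_not_dvd (by norm_num : ¬ 11 ∣ 8640)]
    exact ⟨Sylow.ofCard Q (by rw [hQ, hfac, pow_one]), Sylow.coe_ofCard _ _⟩
  have hNC : ∀ S : Sylow 11 G, Nat.card (Subgroup.centralizer ((S : Subgroup G) : Set G)) = 11 ∧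
      Nat.card (Subgroup.normalizer ((S : Subgroup G) : Set G)) = 55 := by
    intro S
    obtain ⟨V, K, hV⟩ := eleven_normalizer hG S
    haveI : Fintype (S : Subgroup G) := Fintype.ofFinite _
    haveI : Fintype V := Fintype.ofFinite _
    haveI : Fintype (Subgroup.normalizer ((S : Subgroup G) : Set G)) := Fintype.ofFinite _
    haveI : Fintype ((S : Subgroup G) →* ℂˣ) := Fintype.ofFinite _
    refine ⟨by rw [card_centralizer K, hV, mul_one], ?_⟩
    rw [K.D.hcard, K.hP, hV]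
  have hcent : ∀ z : G, orderOf z = 11 → Nat.card (Subgroup.centralizer ({z} : Set G)) = 11 := by
    intro z hz
    obtain ⟨S, hS⟩ := hQP (Subgroup.zpowers z) (by rw [Nat.card_zpowers, hz])
    rw [← (hNC S).1, hS, Subgroup.zpowers_eq_closure, Subgroup.centralizer_closure]
  refine ⟨hcent, fun Q hQ => ?_, ?_⟩
  · obtain ⟨S, rfl⟩ := hQP Q hQ
    rw [(hNC S).2]; norm_num
  obtain ⟨P⟩ : Nonempty (Sylow 11 G) := inferInstance
  obtain ⟨V, K, hV⟩ := eleven_normalizer hG P
  have hVb : V = ⊥ := Subgroup.card_eq_one.1 hV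
  subst hVb
  haveI : Fintype (P : Subgroup G) := Fintype.ofFinite _
  haveI : Fintype (⊥ : Subgroup G) := Fintype.ofFinite _
  haveI : Fintype (Subgroup.normalizer ((P : Subgroup G) : Set G)) := Fintype.ofFinite _
  haveI : Fintype ((P : Subgroup G) →* ℂˣ) := Fintype.ofFinite _
  obtain ⟨M, hM⟩ := exists_isPModular_witness 11
  haveI := IsPModular.isPrime hM
  obtain ⟨eb, X, Y, δ, sg, F⟩ := exists_families K hM (trivB (⊥ : Subgroup G))
  obtain ⟨hXc, hYc, hXd, hYd, hrel, hagree, hprin⟩ := families_facts hM (by norm_num) K F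
  obtain ⟨hpX, hpsg⟩ := hprin.resolve_right fun h => by rw [h] at hYc; simp at hYc
  obtain ⟨y, hy⟩ := exists_ne_one_P K
  have hy1 : (y : G) ≠ 1 := fun h => hy (Subtype.ext h)
  have hyo : orderOf (y : G) = 11 := orderOf_P K y.2 hy1
  have hB := principal_eq K hM F
  have hd1 : charDegree (principal G : G → ℂ) = 1 := Cfsg.Agent.CharX.charDegree_one
  have hY2 : Y.card = 2 := by omega
  obtain ⟨θ, θ', hθne, hYe⟩ := Finset.card_eq_two.1 hY2
  have hθ : θ ∈ Y := by rw [hYe]; simp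
  have hθ' : θ' ∈ Y := by rw [hYe]; simp
  have hX' : ∀ χ ∈ X.erase (principal G), charDegree (χ : G → ℂ) ∈ xDegs ∧
      sg χ = signDeg (charDegree (χ : G → ℂ)) := by
    intro χ hχ
    have hχX := Finset.mem_of_mem_erase hχ
    obtain ⟨h308, hdvd⟩ := deg_facts hG χ
    have h := hXd χ hχX
    have h1 : charDegree (χ : G → ℂ) ≠ 1 := fun h1 => Finset.ne_of_mem_erase hχ (eq_principal hG h1)
    have h5 := deg_pm_eleven (charDegree (χ : G → ℂ)) (by omega) hdvd (by
      rcases F.signX χ hχX with e1 | e1 <;> rw [e1, Int.ModEq] at h <;> omega)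
    simp only [List.mem_cons, List.not_mem_nil, or_false] at h5
    constructor
    · simp only [xDegs, List.mem_cons, List.not_mem_nil, or_false]; omega
    · rw [signDeg]
      rcases F.signX χ hχX with e1 | e1 <;> rw [e1] at h ⊢ <;> rw [Int.ModEq] at h <;> split_ifs <;> omega
  -- the four characters in the order of their degrees
  set fs := ((X.erase (principal G)).val.map fun χ : IrrCharacter G => charDegree (χ : G → ℂ)).sort (· ≤ ·)
    with hfs
  have hfsc : (↑fs : Multiset ℕ) = (X.erase (principal G)).val.map fun χ : IrrCharacter G =>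
      charDegree (χ : G → ℂ) := Multiset.sort_eq _ _
  have hlen : fs.length = 4 := by
    have := congrArg Multiset.card hfsc
    rw [Multiset.coe_card, Multiset.card_map, Finset.card_val, Finset.card_erase_of_mem hpX, hXc] at this
    omega
  obtain ⟨a, b, c, d, hfsl⟩ : ∃ a b c d, fs = [a, b, c, d] := by
    match fs, hlen with
    | [a, b, c, d], _ => exact ⟨a, b, c, d, rfl⟩
  have hsorted : fs.Pairwise (· ≤ ·) := by rw [hfs]; exact Multiset.pairwise_sort _ _
  rw [hfsl] at hfsc hsorted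
  simp only [List.pairwise_cons, List.mem_cons, List.not_mem_nil, or_false, forall_eq_or_imp,
    forall_eq] at hsorted
  obtain ⟨l, hl, hlm⟩ := M11Local.exists_list_map _ _ _ hfsc.symm
  obtain ⟨c₁, c₂, c₃, c₄, rfl⟩ : ∃ a b c d, l = [a, b, c, d] := by
    have hll := congrArg List.length hlm
    rw [List.length_map] at hll
    match l, hll with
    | [a, b, c, d], _ => exact ⟨a, b, c, d, rfl⟩
  simp only [List.map_cons, List.map_nil, List.cons.injEq, and_true] at hlm
  obtain ⟨e₁, e₂, e₃, e₄⟩ := hlm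
  have hmemX : ∀ χ : IrrCharacter G, χ ∈ X.erase (principal G) ↔ χ ∈ [c₁, c₂, c₃, c₄] := fun χ => by
    rw [← Finset.mem_val, ← hl, Multiset.mem_coe]
  have hnd : [c₁, c₂, c₃, c₄].Nodup := by rw [← Multiset.coe_nodup, hl]; exact Finset.nodup _
  have hc : ∀ χ ∈ [c₁, c₂, c₃, c₄], χ ∈ X ∧ χ ≠ principal G ∧ charDegree (χ : G → ℂ) ∈ xDegs ∧
      sg χ = signDeg (charDegree (χ : G → ℂ)) := fun χ hχ => by
    have h := (hmemX χ).2 hχ
    exact ⟨Finset.mem_of_mem_erase h, Finset.ne_of_mem_erase h, hX' χ h⟩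
  obtain ⟨hc1, hc1', hd1', hs1⟩ := hc c₁ (by simp)
  obtain ⟨hc2, hc2', hd2', hs2⟩ := hc c₂ (by simp)
  obtain ⟨hc3, hc3', hd3', hs3⟩ := hc c₃ (by simp)
  obtain ⟨hc4, hc4', hd4', hs4⟩ := hc c₄ (by simp)
  -- the relation
  have hsumX : ∀ Φ : IrrCharacter G → ℂ, ∑ χ ∈ X, Φ χ = Φ (principal G) + Φ c₁ + Φ c₂ + Φ c₃ + Φ c₄ := by
    intro Φ
    rw [← Finset.add_sum_erase _ _ hpX, show X.erase (principal G) = [c₁, c₂, c₃, c₄].toFinset from
      Finset.ext fun χ => by rw [hmemX, List.mem_toFinset], List.sum_toFinset _ hnd]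
    simp only [List.map_cons, List.map_nil, List.sum_cons, List.sum_nil, add_zero]
    ring
  have hrel' : ∀ g : G, ¬ 11 ∣ orderOf g → 1 + (signDeg a : ℂ) * (c₁ : G → ℂ) g +
      (signDeg b : ℂ) * (c₂ : G → ℂ) g + (signDeg c : ℂ) * (c₃ : G → ℂ) g +
      (signDeg d : ℂ) * (c₄ : G → ℂ) g + (δ : ℂ) * (θ : G → ℂ) g = 0 := by
    intro g hg
    have h := Families.relation K F hθ hg
    rw [hsumX, hpsg, hs1, hs2, hs3, hs4, e₁, e₂, e₃, e₄] at h
    simpa [principal] using h
  have hagree' : ∀ g : G, ¬ 11 ∣ orderOf g → (θ' : G → ℂ) g = (θ : G → ℂ) g := fun g hg =>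
    Families.agree K F hθ' hθ hg
  have hθd := hagree θ' hθ' θ hθ
  set t := charDegree (θ : G → ℂ) with ht
  have hone : signTotal a b c d + δ * (t : ℤ) = 0 := by
    have h := hrel' 1 (by simp)
    rw [irr_one_eq_charDegree, irr_one_eq_charDegree, irr_one_eq_charDegree, irr_one_eq_charDegree,
      irr_one_eq_charDegree, e₁, e₂, e₃, e₄] at h
    rw [signTotal, ht]
    exact_mod_cast h
  -- values at the element of order eleven
  have hval : ∀ χ, χ ∈ X → (χ : G → ℂ) y = sg χ := fun χ hχ => by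
    rw [← phi_principal K hM (by rw [hB]; exact Or.inl hχ) hy, Families.phi_X K F hχ hy]
  have hothers : ∀ χ : IrrCharacter G, χ ∉ [principal G, c₁, c₂, c₃, c₄, θ, θ'] →
      11 ∣ charDegree (χ : G → ℂ) ∧ (χ : G → ℂ) y = 0 := by
    intro χ hχ
    have hdvd : 11 ∣ charDegree (χ : G → ℂ) := by
      by_contra hnd'
      obtain ⟨b', hb⟩ := exists_inR K hM hnd'
      have hb0 : b' = trivB (⊥ : Subgroup G) := Subtype.ext (funext fun z => by
        have hz : z = 1 := Subsingleton.elim _ _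
        rw [hz, degree_one_of_comm (fun _ _ => Subsingleton.elim _ _) b'.2]
        rfl)
      subst hb0
      rcases (mem_iff_inR K F χ).2 hb with h | h
      · by_cases hp : χ = principal G
        · simp [hp] at hχ
        · have := (hmemX χ).1 (Finset.mem_erase.2 ⟨hp, h⟩)
          simp only [List.mem_cons, List.not_mem_nil, or_false] at this hχ
          tauto
      · rw [hYe] at h
        simp only [Finset.mem_insert, Finset.mem_singleton] at h
        simp only [List.mem_cons, List.not_mem_nil, or_false] at hχ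
        tauto
    exact ⟨hdvd, by simpa using section_zero_of_dvd K hM hdvd hy (1 : (⊥ : Subgroup G))⟩
  have hdisj : ∀ χ ∈ X, χ ≠ θ ∧ χ ≠ θ' := fun χ hχ =>
    ⟨fun h => Finset.disjoint_left.1 F.disj hχ (h ▸ hθ), fun h => Finset.disjoint_left.1 F.disj hχ (h ▸ hθ')⟩
  have hnodup : [principal G, c₁, c₂, c₃, c₄, θ, θ'].Nodup := by
    have h1 := hdisj _ hpX; have h2 := hdisj _ hc1; have h3 := hdisj _ hc2
    have h4 := hdisj _ hc3; have h5 := hdisj _ hc4
    simp only [List.nodup_cons, List.mem_cons, List.not_mem_nil, or_false, not_or, List.nodup_nil,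
      and_true, not_false_eq_true] at hnd ⊢
    refine ⟨⟨hc1'.symm, hc2'.symm, hc3'.symm, hc4'.symm, h1.1, h1.2⟩, ⟨hnd.1.1, hnd.1.2.1, hnd.1.2.2, h2.1, h2.2⟩,
      ⟨hnd.2.1.1, hnd.2.1.2, h3.1, h3.2⟩, ⟨hnd.2.2, h4.1, h4.2⟩, ⟨h5.1, h5.2⟩, hθne⟩
  have hsumθ : (θ : G → ℂ) y + (θ' : G → ℂ) y = δ := by
    have h := column_orth_of_not_isConj (g := (y : G)) (h := (1 : G)) fun hc => hy1 (isConj_one_left.1 hc)
    have hsub : ∀ χ ∈ (Finset.univ : Finset (IrrCharacter G)),
        χ ∉ [principal G, c₁, c₂, c₃, c₄, θ, θ'].toFinset →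
          (χ : G → ℂ) y * conj ((χ : G → ℂ) 1) = 0 := fun χ _ hχ => by
      rw [(hothers χ fun h' => hχ (List.mem_toFinset.2 h')).2, zero_mul]
    rw [← Finset.sum_subset (Finset.subset_univ _) hsub, List.sum_toFinset _ hnodup] at h
    simp only [List.map_cons, List.map_nil, List.sum_cons, List.sum_nil, add_zero] at h
    rw [hval _ hpX, hval _ hc1, hval _ hc2, hval _ hc3, hval _ hc4, hpsg, hs1, hs2, hs3, hs4,
      irr_one_eq_charDegree, irr_one_eq_charDegree, irr_one_eq_charDegree, irr_one_eq_charDegree,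
      irr_one_eq_charDegree, irr_one_eq_charDegree, irr_one_eq_charDegree, hd1, e₁, e₂, e₃, e₄, hθd,
      map_natCast, map_natCast, map_natCast, map_natCast, map_natCast, map_natCast] at h
    have ht0 : (t : ℂ) ≠ 0 := Nat.cast_ne_zero.2 (charDegree_pos θ).ne'
    have h1 : ((signTotal a b c d + δ * (t : ℤ) : ℤ) : ℂ) = 0 := by rw [hone]; simp
    rw [signTotal] at h1
    push_cast at h h1
    refine mul_left_cancel₀ ht0 ?_
    linear_combination h - h1
  have hmod : (t : ℤ) % 11 = (-δ * 5) % 11 := by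
    have h := hYd θ hθ
    exact h
  have hpat : (a, b, c, d, t) ∈ patterns := by
    have ha' : a ∈ xDegs := e₁ ▸ hd1'
    have hb' : b ∈ xDegs := e₂ ▸ hd2'
    have hc' : c ∈ xDegs := e₃ ▸ hd3'
    have hd' : d ∈ xDegs := e₄ ▸ hd4'
    obtain ⟨h308, hdvd⟩ := deg_facts hG θ
    refine pattern_mem ha' hb' hc' hd' hsorted.1.1 hsorted.2.1.1 hsorted.2.2.1 F.sign
      (deg_five_eleven t (by omega) hdvd (by rcases F.sign with e | e <;> rw [e] at hmod <;> omega))
      hone hmod ?_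
    have h := Finset.sum_le_sum_of_subset (f := fun χ : IrrCharacter G => charDegree (χ : G → ℂ) ^ 2)
      (Finset.subset_univ [principal G, c₁, c₂, c₃, c₄, θ, θ'].toFinset)
    rw [Cfsg.Agent.CharX.sum_deg_sq, hG, List.sum_toFinset _ hnodup] at h
    simp only [List.map_cons, List.map_nil, List.sum_cons, List.sum_nil, add_zero] at h
    rw [hd1, e₁, e₂, e₃, e₄, hθd] at h
    nlinarith
  have hnr : ¬ IsConj (y : G) (y : G)⁻¹ := by
    intro h
    obtain ⟨g, hg⟩ := isConj_iff.1 h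
    have hgN : g ∈ Subgroup.normalizer ((P : Subgroup G) : Set G) :=
      K.D.hTI _ y.2 hy1 g (hg ▸ (P : Subgroup G).inv_mem y.2)
    have h55 : g ^ 55 = 1 := orderOf_dvd_iff_pow_eq_one.1
      ((hNC P).2 ▸ Subgroup.orderOf_dvd_natCard _ hgN)
    have hinv : g * (y : G)⁻¹ * g⁻¹ = y := by rw [← conj_inv, hg, inv_inv]
    have hsq : g ^ 2 ∈ Subgroup.centralizer ({(y : G)} : Set G) := by
      rw [Subgroup.mem_centralizer_singleton_iff, pow_two, ← mul_inv_eq_iff_eq_mul,
        show g * g * y * (g * g)⁻¹ = g * (g * y * g⁻¹) * g⁻¹ by group, hg, hinv]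
    have hgc : g ∈ Subgroup.centralizer ({(y : G)} : Set G) := by
      have := (Subgroup.centralizer ({(y : G)} : Set G)).pow_mem hsq 28
      rwa [← pow_mul, show 2 * 28 = 55 + 1 from rfl, pow_succ, h55, one_mul] at this
    rw [Subgroup.mem_centralizer_singleton_iff, ← mul_inv_eq_iff_eq_mul, hg] at hgc
    have h2 : (y : G) ^ 2 = 1 := by rw [pow_two]; nth_rewrite 1 [← hgc]; exact inv_mul_cancel _
    have := orderOf_dvd_of_pow_eq_one h2
    rw [hyo] at this
    norm_num at this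
  refine ⟨(y : G), c₁, c₂, c₃, c₄, θ, θ', a, b, c, d, t, δ,
    ⟨hyo, hcent _ hyo, hnr, hnodup, F.sign, e₁, e₂, e₃, e₄, rfl, hθd, ?_, ?_, ?_, ?_, hsumθ, hothers,
      hagree', hrel'⟩, hpat⟩
  · rw [hval _ hc1, hs1, e₁]
  · rw [hval _ hc2, hs2, e₂]
  · rw [hval _ hc3, hs3, e₃]
  · rw [hval _ hc4, hs4, e₄]

end Cfsg.Agent.M12Uniq
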