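import Cfsg.Agent.Lib.M12Uniq.AlgAction
import Cfsg.Agent.Lib.DegreePTwo.Square
import Mathlib.LinearAlgebra.Eigenspace.Triangularizable
import Mathlib.LinearAlgebra.Matrix.DotProduct

/-!
From a real character of odd degree occurring in its own square, with irreducible exterior square,
to an algebra with a quadratic identity.
-/

set_option autoImplicit false
set_option linter.unusedSectionVars false

namespace Cfsg.Agent.M12Uniq

open Module Cfsg.Agent.Char
open scoped ComplexConjugate Matrix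

universe u

variable {G : Type u} [Group G] {n : ℕ}

/-- The unit vectors. -/
def unit' (i : Fin n) : Fin n → ℂ := Pi.single i 1

/-- A bilinear map as a linear map on matrices. -/
noncomputable def toMat {M : Type*} [AddCommGroup M] [Module ℂ M]
    (f : (Fin n → ℂ) →ₗ[ℂ] (Fin n → ℂ) →ₗ[ℂ] M) : Matrix (Fin n) (Fin n) ℂ →ₗ[ℂ] M where
  toFun A := ∑ i, ∑ j, A i j • f (unit' i) (unit' j)
  map_add' A B := by simp [add_smul, Finset.sum_add_distrib]
  map_smul' r A := by simp [Finset.smul_sum, smul_smul]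

theorem toMat_vecMulVec {M : Type*} [AddCommGroup M] [Module ℂ M]
    (f : (Fin n → ℂ) →ₗ[ℂ] (Fin n → ℂ) →ₗ[ℂ] M) (a c : Fin n → ℂ) :
    toMat f (Matrix.vecMulVec a c) = f a c := by
  have ha : a = ∑ i, a i • unit' i := by
    funext k; simp [unit', Finset.sum_apply, Pi.single_apply]
  have hc : c = ∑ i, c i • unit' i := by
    funext k; simp [unit', Finset.sum_apply, Pi.single_apply]
  conv_rhs => rw [ha, hc]
  simp only [toMat, LinearMap.coe_mk, AddHom.coe_mk, Matrix.vecMulVec_apply, map_sum, map_smul,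
    LinearMap.sum_apply, LinearMap.smul_apply, Finset.smul_sum, smul_smul]
  rw [Finset.sum_comm]
  exact Finset.sum_congr rfl fun j _ => Finset.sum_congr rfl fun i _ => by rw [mul_comm]

theorem mat_ext {M : Type*} [AddCommGroup M] [Module ℂ M] {F F' : Matrix (Fin n) (Fin n) ℂ →ₗ[ℂ] M}
    (h : ∀ a c, F (Matrix.vecMulVec a c) = F' (Matrix.vecMulVec a c)) : F = F' := by
  refine (Matrix.stdBasis ℂ (Fin n) (Fin n)).ext fun ij => ?_
  rw [Matrix.stdBasis_eq_single, Matrix.single_eq_single_vecMulVec_single]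
  exact h _ _

theorem congRep_vecMulVec (ρ : Representation ℂ G (Fin n → ℂ)) (g : G) (a c : Fin n → ℂ) :
    congRep ρ g (Matrix.vecMulVec a c) = Matrix.vecMulVec (ρ g a) (ρ g c) := by
  rw [congRep_apply, Matrix.mul_vecMulVec, Matrix.vecMulVec_mul, Matrix.vecMul_transpose,
    LinearMap.toMatrix'_mulVec, LinearMap.toMatrix'_mulVec]

section QuadLift

variable {X : Type*} [AddCommGroup X] [Module ℂ X] (P : (Fin n → ℂ) →ₗ[ℂ] (Fin n → ℂ) →ₗ[ℂ] X)
  (Q : X →ₗ[ℂ] X →ₗ[ℂ] ℂ)

/-- The form on matrices sending a pair of rank one matrices to `Q (P a b) (P c d)`. -/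
noncomputable def quadLift :
    Matrix (Fin n) (Fin n) ℂ →ₗ[ℂ] Matrix (Fin n) (Fin n) ℂ →ₗ[ℂ] ℂ :=
  toMat (LinearMap.mk₂ ℂ (fun a c => toMat (Q.compl₁₂ (P a) (P c)))
    (fun a a' c => mat_ext fun b d => by simp [toMat_vecMulVec])
    (fun r a c => mat_ext fun b d => by simp [toMat_vecMulVec])
    (fun a c c' => mat_ext fun b d => by simp [toMat_vecMulVec])
    (fun r a c => mat_ext fun b d => by simp [toMat_vecMulVec]))

theorem quadLift_apply (a c b d : Fin n → ℂ) :
    quadLift P Q (Matrix.vecMulVec a c) (Matrix.vecMulVec b d) = Q (P a b) (P c d) := by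
  rw [quadLift, toMat_vecMulVec, LinearMap.mk₂_apply, toMat_vecMulVec]
  rfl

theorem quadLift_inv (ρ : Representation ℂ G (Fin n → ℂ)) (g : G)
    (h : ∀ a b c d, Q (P (ρ g a) (ρ g b)) (P (ρ g c) (ρ g d)) = Q (P a b) (P c d))
    (A B : Matrix (Fin n) (Fin n) ℂ) :
    quadLift P Q (congRep ρ g A) (congRep ρ g B) = quadLift P Q A B := by
  suffices ((quadLift P Q).compl₁₂ (congRep ρ g) (congRep ρ g)) = quadLift P Q from
    LinearMap.congr_fun (LinearMap.congr_fun this A) B
  refine mat_ext fun a c => mat_ext fun b d => ?_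
  simp [congRep_vecMulVec, quadLift_apply, h]

theorem quadLift_wedge (hQ : ∀ x y, Q x y = Q y x) (a c b d : Fin n → ℂ) :
    quadLift P Q (Matrix.vecMulVec a c - Matrix.vecMulVec c a)
        (Matrix.vecMulVec b d - Matrix.vecMulVec d b) =
      2 * (Q (P a b) (P c d) - Q (P a d) (P c b)) := by
  simp only [map_sub, LinearMap.sub_apply, quadLift_apply]
  rw [hQ (P c b) (P a d), hQ (P c d) (P a b)]
  ring

end QuadLift

/-- The submodules invariant under an irreducible representation. -/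
theorem bot_or_top_of_irreducible {V : Type*} [AddCommGroup V] [Module ℂ V] (ρ : Representation ℂ G V)
    [ρ.IsIrreducible] (W : Submodule ℂ V) (hW : ∀ g, ∀ w ∈ W, ρ g w ∈ W) : W = ⊥ ∨ W = ⊤ := by
  have : IsSimpleOrder (Subrepresentation ρ) := ‹ρ.IsIrreducible›
  rcases eq_bot_or_eq_top (⟨W, fun g _ hw => hW g _ hw⟩ : Subrepresentation ρ) with h | h
  · exact Or.inl (congrArg Subrepresentation.toSubmodule h)
  · exact Or.inr (congrArg Subrepresentation.toSubmodule h)

/-- Two invariant forms on an irreducible representation are proportional. -/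
theorem exists_scalar_forms {V : Type*} [AddCommGroup V] [Module ℂ V] [FiniteDimensional ℂ V]
    (ρ : Representation ℂ G V) [ρ.IsIrreducible] (B B₀ : V →ₗ[ℂ] V →ₗ[ℂ] ℂ)
    (hB : ∀ g x y, B (ρ g x) (ρ g y) = B x y) (hB₀ : ∀ g x y, B₀ (ρ g x) (ρ g y) = B₀ x y)
    (hne : B₀ ≠ 0) : ∃ β : ℂ, B = β • B₀ := by
  have hker : LinearMap.ker B₀ = ⊥ := by
    refine (bot_or_top_of_irreducible ρ _ fun g w hw => ?_).resolve_right
      (fun h => hne (LinearMap.ker_eq_top.1 h))
    rw [LinearMap.mem_ker] at hw ⊢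
    refine LinearMap.ext fun y => ?_
    have h1 := hB₀ g w (ρ g⁻¹ y)
    rw [Representation.self_inv_apply, hw] at h1
    exact h1
  have : Nontrivial V := by
    by_contra hc
    rw [not_nontrivial_iff_subsingleton] at hc
    exact hne (LinearMap.ext fun x => by rw [Subsingleton.elim x 0, map_zero, map_zero])
  let e : V ≃ₗ[ℂ] (V →ₗ[ℂ] ℂ) := LinearEquiv.ofInjectiveOfFinrankEq B₀ (LinearMap.ker_eq_bot.1 hker)
    Subspace.dual_finrank_eq.symm
  obtain ⟨β, hβ⟩ := Module.End.exists_eigenvalue (e.symm.toLinearMap ∘ₗ B)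
  obtain ⟨v, hv, hv0⟩ := Submodule.exists_mem_ne_zero_of_ne_bot hβ
  refine ⟨β, sub_eq_zero.1 (LinearMap.ker_eq_top.1 ((bot_or_top_of_irreducible ρ
    (LinearMap.ker (B - β • B₀)) fun g w hw => ?_).resolve_left fun h => hv0 ?_))⟩
  · rw [LinearMap.mem_ker, LinearMap.sub_apply, LinearMap.smul_apply, sub_eq_zero] at hw ⊢
    refine LinearMap.ext fun y => ?_
    have h1 := hB g w (ρ g⁻¹ y)
    have h2 := hB₀ g w (ρ g⁻¹ y)
    rw [Representation.self_inv_apply] at h1 h2
    rw [LinearMap.smul_apply, h1, h2, hw, LinearMap.smul_apply]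
  · rw [Module.End.mem_eigenspace_iff, LinearMap.comp_apply] at hv
    have h1 := congrArg e hv
    rw [LinearEquiv.coe_coe, e.apply_symm_apply, map_smul] at h1
    have h2 : v ∈ LinearMap.ker (B - β • B₀) := by
      rw [LinearMap.mem_ker, LinearMap.sub_apply, LinearMap.smul_apply, h1]
      exact sub_self _
    rwa [h, Submodule.mem_bot] at h2

variable [Fintype G] (ρ : Representation ℂ G (Fin n → ℂ)) [ρ.IsIrreducible]

theorem exists_form (hreal : ∀ s, conj (ρ.character s) = ρ.character s)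
    (hind : (Nat.card G : ℂ)⁻¹ * ∑ s : G, ρ.character (s * s) = 1) :
    ∃ b : (Fin n → ℂ) →ₗ[ℂ] (Fin n → ℂ) →ₗ[ℂ] ℂ, (∀ a c, b a c = b c a) ∧
      (∀ g a c, b (ρ g a) (ρ g c) = b a c) ∧ (∀ a, (∀ c, b a c = 0) → a = 0) ∧
      ∀ φ : (Fin n → ℂ) →ₗ[ℂ] ℂ, ∃ x, ∀ c, b x c = φ c := by
  classical
  obtain ⟨c, -, hν, w, hw0, hwT, hw⟩ := (indicator_cases ρ).1 hreal
  rw [hind] at hν
  subst hν
  rw [one_smul] at hwT
  have hrange : LinearMap.range w.mulVecLin = ⊤ := by
    refine (bot_or_top_of_irreducible ρ _ ?_).resolve_left fun h => hw0 ?_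
    · rintro g _ ⟨y, rfl⟩
      refine ⟨(LinearMap.toMatrix' (ρ g⁻¹))ᵀ *ᵥ y, ?_⟩
      rw [Matrix.mulVecLin_apply, Matrix.mulVecLin_apply, Matrix.mulVec_mulVec]
      conv_lhs => rw [← hw g, congRep_apply]
      rw [Matrix.mul_assoc _ _ (LinearMap.toMatrix' (ρ g⁻¹))ᵀ, ← Matrix.transpose_mul,
        ← LinearMap.toMatrix'_comp, ← Module.End.mul_eq_comp, ← map_mul, inv_mul_cancel, map_one,
        Module.End.one_eq_id, LinearMap.toMatrix'_id, Matrix.transpose_one, Matrix.mul_one,
        ← Matrix.mulVec_mulVec, LinearMap.toMatrix'_mulVec]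
    · exact Matrix.ext_iff_mulVec.2 fun y => by
        rw [Matrix.zero_mulVec]
        exact LinearMap.congr_fun (LinearMap.range_eq_bot.1 h) y
  have hu : IsUnit w.det := (Matrix.isUnit_iff_isUnit_det w).1
    (Matrix.mulVec_surjective_iff_isUnit.1 (LinearMap.range_eq_top.1 hrange))
  set v := w⁻¹ with hv
  have hvw : v * w = 1 := Matrix.nonsing_inv_mul w hu
  have hwv : w * v = 1 := Matrix.mul_nonsing_inv w hu
  have hvT : vᵀ = v := by rw [hv, Matrix.transpose_nonsing_inv, hwT]
  have hinv : ∀ g, (LinearMap.toMatrix' (ρ g))ᵀ * v * LinearMap.toMatrix' (ρ g) = v := by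
    intro g
    have h1 := hw g
    rw [congRep_apply, Matrix.mul_assoc] at h1
    have h2 : (LinearMap.toMatrix' (ρ g) * (w * (LinearMap.toMatrix' (ρ g))ᵀ)) * v = 1 := by
      rw [h1, hwv]
    rw [Matrix.mul_assoc] at h2
    have h3 : (w * (LinearMap.toMatrix' (ρ g))ᵀ * v) * LinearMap.toMatrix' (ρ g) = 1 :=
      mul_eq_one_comm.1 h2
    calc _ = v * w * ((LinearMap.toMatrix' (ρ g))ᵀ * v * LinearMap.toMatrix' (ρ g)) := by
            rw [hvw, Matrix.one_mul]
      _ = v * ((w * (LinearMap.toMatrix' (ρ g))ᵀ * v) * LinearMap.toMatrix' (ρ g)) := by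
            simp only [Matrix.mul_assoc]
      _ = v := by rw [h3, Matrix.mul_one]
  let b : (Fin n → ℂ) →ₗ[ℂ] (Fin n → ℂ) →ₗ[ℂ] ℂ := Matrix.toLinearMap₂' ℂ v
  have hb : ∀ a c, b a c = a ⬝ᵥ (v *ᵥ c) := fun a c => Matrix.toLinearMap₂'_apply' v a c
  have hsymm : ∀ a c, b a c = b c a := fun a c => by
    rw [hb, hb, Matrix.dotProduct_mulVec, dotProduct_comm, ← Matrix.mulVec_transpose, hvT]
  have hrep : ∀ φ : (Fin n → ℂ) →ₗ[ℂ] ℂ, ∃ x, ∀ c, b x c = φ c := by
    intro φ
    refine ⟨w *ᵥ fun i => φ (unit' i), fun c => ?_⟩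
    rw [hb, Matrix.dotProduct_mulVec, ← Matrix.mulVec_transpose, hvT, Matrix.mulVec_mulVec, hvw,
      Matrix.one_mulVec]
    conv_rhs => rw [show c = ∑ i, c i • unit' i by
      funext k; simp [unit', Finset.sum_apply, Pi.single_apply]]
    simp [dotProduct, map_sum, mul_comm]
  refine ⟨b, hsymm, fun g a c => ?_, fun a h => ?_, hrep⟩
  · rw [hb, hb, ← LinearMap.toMatrix'_mulVec (ρ g) a, ← LinearMap.toMatrix'_mulVec (ρ g) c,
      Matrix.mulVec_mulVec, Matrix.dotProduct_mulVec, ← Matrix.vecMul_transpose, Matrix.vecMul_vecMul,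
      ← Matrix.mul_assoc, hinv, Matrix.dotProduct_mulVec]
  · refine dotProduct_eq_zero_iff.1 fun c => ?_
    have := h (w *ᵥ c)
    rwa [hb, Matrix.mulVec_mulVec, hvw, Matrix.one_mulVec] at this

/-- The invariant product, unique up to scalars. -/
theorem exists_prd (hreal : ∀ s, conj (ρ.character s) = ρ.character s) (hn : 4 ≤ n)
    (h3 : Cfsg.classInner (fun g => ρ.character g * ρ.character g) ρ.character = 1)
    [(DegreePTwo.skewSub ρ).toRepresentation.IsIrreducible] :
    ∃ m : (Fin n → ℂ) →ₗ[ℂ] (Fin n → ℂ) →ₗ[ℂ] (Fin n → ℂ), m ≠ 0 ∧ (∀ a c, m a c = m c a) ∧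
      (∀ g a c, m (ρ g a) (ρ g c) = ρ g (m a c)) ∧
      ∀ m' : (Fin n → ℂ) →ₗ[ℂ] (Fin n → ℂ) →ₗ[ℂ] (Fin n → ℂ),
        (∀ g a c, m' (ρ g a) (ρ g c) = ρ g (m' a c)) → ∃ r : ℂ, m' = r • m := by
  classical
  set σ := Representation.linHom (congRep ρ) ρ with hσ
  have hfin : finrank ℂ σ.invariants = 1 := by
    have h1 : (finrank ℂ σ.invariants : ℂ) = 1 := by
      rw [← sum_char_eq_finrank_invariants, ← h3, Cfsg.classInner]
      congr 1
      refine Finset.sum_congr rfl fun g _ => ?_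
      rw [hσ, Representation.char_linHom, trace_congRep, char_inv, hreal]
    exact_mod_cast h1
  let I : Submodule ℂ (Matrix (Fin n) (Fin n) ℂ →ₗ[ℂ] (Fin n → ℂ)) := σ.invariants
  have hfinI : finrank ℂ I = 1 := hfin
  have : Module.Free ℂ I := Module.Free.of_divisionRing ℂ I
  obtain ⟨⟨L, hL⟩, hL0, hspan⟩ := (finrank_eq_one_iff' (K := ℂ) (V := I)).1 hfinI
  have hinvar : ∀ {F : Matrix (Fin n) (Fin n) ℂ →ₗ[ℂ] (Fin n → ℂ)},
      F ∈ σ.invariants ↔ ∀ g A, F (congRep ρ g A) = ρ g (F A) := by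
    intro F
    rw [Representation.mem_invariants]
    constructor
    · intro h g A
      conv_lhs => rw [← h g]
      simp [hσ, Representation.linHom_apply]
    · intro h g
      refine LinearMap.ext fun A => ?_
      simp [hσ, Representation.linHom_apply, ← h]
  have hLeq := hinvar.1 hL
  have hLT : ∀ A, L Aᵀ = L A := by
    have hT : L ∘ₗ matT n ∈ σ.invariants := hinvar.2 fun g A => by
      simp only [LinearMap.comp_apply, matT_apply]
      rw [← hLeq, congRep_apply, congRep_apply]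
      simp [Matrix.transpose_mul, Matrix.mul_assoc]
    obtain ⟨r, hr⟩ := hspan ⟨_, hT⟩
    have hr' : ∀ A, L Aᵀ = r • L A := fun A => (LinearMap.congr_fun (congrArg Subtype.val hr) A).symm
    have hLne : L ≠ 0 := fun h => hL0 (Subtype.ext h)
    obtain ⟨A₀, hA₀⟩ : ∃ A, L A ≠ 0 := by
      by_contra hc; push Not at hc; exact hLne (LinearMap.ext hc)
    have hrr : r * r = 1 := by
      have h1 := hr' A₀ᵀ
      rw [Matrix.transpose_transpose, hr', smul_smul] at h1
      exact smul_left_injective ℂ hA₀ (by simpa using h1.symm)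
    rcases mul_self_eq_one_iff.1 hrr with rfl | rfl
    · exact fun A => by rw [hr', one_smul]
    exfalso
    set W := DegreePTwo.skewSub ρ
    let LW : W.toSubmodule →ₗ[ℂ] (Fin n → ℂ) := L ∘ₗ W.toSubmodule.subtype
    have hker : LinearMap.ker LW = ⊥ := by
      refine (bot_or_top_of_irreducible W.toRepresentation _ fun g x hx => ?_).resolve_right fun h => ?_
      · rw [LinearMap.mem_ker] at hx ⊢
        show L (congRep ρ g x.1) = 0
        rw [hLeq, show L x.1 = 0 from hx, map_zero]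
      · have hmem : A₀ - A₀ᵀ ∈ W.toSubmodule := by
          show A₀ - A₀ᵀ ∈ LinearMap.ker (LinearMap.id + matT n)
          simp [Matrix.transpose_sub]
        have h1 : LW ⟨_, hmem⟩ = 0 := by rw [LinearMap.ker_eq_top.1 h]; rfl
        change L (A₀ - A₀ᵀ) = 0 at h1
        rw [map_sub, hr', neg_one_smul, sub_neg_eq_add, ← two_smul ℂ] at h1
        exact hA₀ ((smul_eq_zero.1 h1).resolve_left two_ne_zero)
    have hle := LinearMap.finrank_le_finrank_of_injective (LinearMap.ker_eq_bot.1 hker)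
    rw [finrank_pi, Fintype.card_fin] at hle
    have hdim : (finrank ℂ W.toSubmodule : ℂ) = ((n : ℂ) * n - n) / 2 := by
      rw [← Representation.char_one W.toRepresentation, DegreePTwo.trace_skewSub, mul_one,
        Representation.char_one, finrank_pi, Fintype.card_fin]
    have hdim' : 2 * finrank ℂ W.toSubmodule + n = n * n := by
      have : (2 : ℂ) * (finrank ℂ W.toSubmodule : ℂ) + n = (n : ℂ) * n := by rw [hdim]; ring
      exact_mod_cast this
    nlinarith
  let m : (Fin n → ℂ) →ₗ[ℂ] (Fin n → ℂ) →ₗ[ℂ] (Fin n → ℂ) :=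
    LinearMap.mk₂ ℂ (fun a c => L (Matrix.vecMulVec a c))
      (fun a a' c => by rw [← map_add, Matrix.add_vecMulVec])
      (fun r a c => by rw [← map_smul, Matrix.smul_vecMulVec])
      (fun a c c' => by rw [← map_add, Matrix.vecMulVec_add])
      (fun r a c => by rw [← map_smul, Matrix.vecMulVec_smul])
  refine ⟨m, fun h => hL0 (Subtype.ext (mat_ext fun a c => ?_)), fun a c => ?_, fun g a c => ?_,
    fun m' hm' => ?_⟩
  · exact LinearMap.congr_fun (LinearMap.congr_fun h a) c
  · show L _ = L _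
    rw [← hLT, Matrix.transpose_vecMulVec]
  · show L _ = ρ g (L _)
    rw [← congRep_vecMulVec, hLeq]
  · have hF : toMat m' ∈ σ.invariants := hinvar.2 fun g A => by
      refine LinearMap.congr_fun (mat_ext (F := toMat m' ∘ₗ congRep ρ g) (F' := ρ g ∘ₗ toMat m') ?_) A
      intro a c
      simp [congRep_vecMulVec, toMat_vecMulVec, hm']
    obtain ⟨r, hr⟩ := hspan ⟨_, hF⟩
    refine ⟨r, LinearMap.ext₂ fun a c => ?_⟩
    rw [← toMat_vecMulVec m']
    exact (LinearMap.congr_fun (congrArg Subtype.val hr) _).symm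

set_option maxHeartbeats 1000000 in
/-- The algebra data. -/
theorem exists_algData_of_indicator (hreal : ∀ s, conj (ρ.character s) = ρ.character s)
    (hind : (Nat.card G : ℂ)⁻¹ * ∑ s : G, ρ.character (s * s) = 1) (h4 : 4 ≤ n)
    (h3 : Cfsg.classInner (fun g => ρ.character g * ρ.character g) ρ.character = 1)
    (hskew : Cfsg.IsIrrCharacter G fun g =>
      (ρ.character g * ρ.character g - ρ.character (g * g)) / 2) :
    ∃ D : AlgData G (Fin n → ℂ), D.rho = ρ := by
  classical
  set W := DegreePTwo.skewSub ρ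
  have hWirr : W.toRepresentation.IsIrreducible := by
    refine isIrreducible_of_norm_one _ ?_
    rw [show W.toRepresentation.character = _ from funext (DegreePTwo.trace_skewSub ρ)]
    exact classInner_self_irr hskew
  obtain ⟨b, bsymm, binv, bnd, brep⟩ := exists_form ρ hreal hind
  obtain ⟨m, hm0, msymm, minv, muniq⟩ := exists_prd ρ hreal h4 h3
  -- full symmetry of the associated trilinear form
  choose X hX using fun a c => brep
    ({ toFun := fun d => b (m a d) c
       map_add' := fun d d' => by simp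
       map_smul' := fun r d => by simp } : (Fin n → ℂ) →ₗ[ℂ] ℂ)
  have hX' : ∀ a c d, b (X a c) d = b (m a d) c := hX
  have huniq : ∀ x y : Fin n → ℂ, (∀ d, b x d = b y d) → x = y := fun x y h =>
    sub_eq_zero.1 (bnd _ fun d => by rw [map_sub, LinearMap.sub_apply, h d, sub_self])
  let m' : (Fin n → ℂ) →ₗ[ℂ] (Fin n → ℂ) →ₗ[ℂ] (Fin n → ℂ) := LinearMap.mk₂ ℂ X
    (fun a a' c => huniq _ _ fun d => by simp [hX'])
    (fun r a c => huniq _ _ fun d => by simp [hX'])
    (fun a c c' => huniq _ _ fun d => by simp [hX'])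
    (fun r a c => huniq _ _ fun d => by simp [hX'])
  obtain ⟨r, hr⟩ := muniq m' fun g a c => huniq _ _ fun d => by
    show b (X (ρ g a) (ρ g c)) d = b (ρ g (X a c)) d
    rw [hX', ← binv g⁻¹ (ρ g (X a c)) d, Representation.inv_self_apply, hX',
      ← binv g (m a (ρ g⁻¹ d)) c, ← minv, Representation.self_inv_apply]
  have hswap : ∀ a c d, b (m a d) c = r * b (m a c) d := fun a c d => by
    rw [← hX', show X a c = m' a c from rfl, hr, LinearMap.smul_apply, LinearMap.smul_apply, map_smul,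
      LinearMap.smul_apply, smul_eq_mul]
  have hr1 : r = 1 := by
    obtain ⟨a, c, d, hne⟩ : ∃ a c d, b (m a c) d ≠ 0 := by
      by_contra hc
      push Not at hc
      exact hm0 (LinearMap.ext₂ fun a c => bnd _ (hc a c))
    have h2 : r * r = 1 := mul_right_cancel₀ hne (by rw [mul_assoc, ← hswap, ← hswap, one_mul])
    have h3 : r * r * r = 1 := by
      refine mul_right_cancel₀ hne ?_
      calc r * r * r * b (m a c) d = r * r * b (m a d) c := by rw [hswap a c d]; ring
        _ = r * (r * b (m d a) c) := by rw [msymm a d]; ring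
        _ = r * b (m c d) a := by rw [← hswap d a c, msymm d c]
        _ = 1 * b (m a c) d := by rw [← hswap c d a, msymm c a, one_mul]
    rw [h2, one_mul] at h3
    exact h3
  have hassoc : ∀ a c d, b (m a c) d = b a (m c d) := fun a c d => by
    rw [msymm a c, hswap c d a, hr1, one_mul, bsymm]
  -- the quadratic identity
  let B₁ := (quadLift m b).compl₁₂ W.toSubmodule.subtype W.toSubmodule.subtype
  let B₀ := (quadLift b (LinearMap.mul ℂ ℂ)).compl₁₂ W.toSubmodule.subtype W.toSubmodule.subtype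
  have hwedge : ∀ a c : Fin n → ℂ, Matrix.vecMulVec a c - Matrix.vecMulVec c a ∈ W.toSubmodule :=
    fun a c => by
      show _ ∈ LinearMap.ker (LinearMap.id + matT n)
      simp [Matrix.transpose_sub, Matrix.transpose_vecMulVec]
  have e₁ : ∀ a c p q, B₁ ⟨_, hwedge a c⟩ ⟨_, hwedge p q⟩ =
      2 * (b (m a p) (m c q) - b (m a q) (m c p)) := fun a c p q => by
    simp only [B₁, LinearMap.compl₁₂_apply, Submodule.subtype_apply]
    exact quadLift_wedge m b bsymm a c p q
  have e₀ : ∀ a c p q, B₀ ⟨_, hwedge a c⟩ ⟨_, hwedge p q⟩ =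
      2 * (b a p * b c q - b a q * b c p) := fun a c p q => by
    simp only [B₀, LinearMap.compl₁₂_apply, Submodule.subtype_apply]
    exact quadLift_wedge b (LinearMap.mul ℂ ℂ) (fun x y => mul_comm x y) a c p q
  have hne₀ : B₀ ≠ 0 := by
    obtain ⟨a, ha⟩ : ∃ a : Fin n → ℂ, a ≠ 0 := ⟨unit' ⟨0, by omega⟩, fun h => by
      simpa [unit'] using congrFun h ⟨0, by omega⟩⟩
    obtain ⟨p, hp⟩ : ∃ p, b a p ≠ 0 := by
      by_contra hc; push Not at hc; exact ha (bnd a hc)
    obtain ⟨c, hc, hc0⟩ : ∃ c, c ∈ LinearMap.ker (b p) ∧ c ≠ 0 := by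
      refine Submodule.exists_mem_ne_zero_of_ne_bot fun hb => ?_
      have := LinearMap.finrank_le_finrank_of_injective (LinearMap.ker_eq_bot.1 hb)
      rw [finrank_pi, Fintype.card_fin, finrank_self] at this
      omega
    obtain ⟨q, hq⟩ : ∃ q, b c q ≠ 0 := by
      by_contra hc'; push Not at hc'; exact hc0 (bnd c hc')
    intro hB
    have h1 := e₀ a c p q
    rw [hB, show b c p = 0 by rw [bsymm]; exact hc] at h1
    simp [hp, hq] at h1
  obtain ⟨β, hβ⟩ := exists_scalar_forms W.toRepresentation B₁ B₀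
    (fun g x y => quadLift_inv m b ρ g (fun a p c q => by rw [minv, minv, binv]) x.1 y.1)
    (fun g x y => quadLift_inv b (LinearMap.mul ℂ ℂ) ρ g (fun a p c q => by rw [binv, binv]) x.1 y.1)
    hne₀
  have hquad : ∀ a p c q, (-β) * (b a p * b c q - b a q * b c p) +
      (b (m a p) (m c q) - b (m a q) (m c p)) = 0 := fun a p c q => by
    have h1 := e₁ a c p q
    rw [hβ, LinearMap.smul_apply, LinearMap.smul_apply, e₀, smul_eq_mul] at h1
    linear_combination (-1 / 2 : ℂ) * h1
  have hfix : ∀ a, (∀ g, ρ g a = a) → a = 0 := fun a ha => by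
    have hne : ρ.character ≠ fun _ => 1 := fun h => by
      have := congrFun h 1
      rw [Representation.char_one, finrank_pi, Fintype.card_fin] at this
      norm_cast at this
      omega
    have : a ∈ ρ.invariants := (Representation.mem_invariants ρ a).2 ha
    rwa [Char.invariants_eq_bot ρ hne, Submodule.mem_bot] at this
  exact ⟨⟨ρ, b, m, -β, bsymm, binv, bnd, msymm, minv, hm0, hassoc, hquad,
    bot_or_top_of_irreducible ρ, hfix⟩, rfl⟩

/-- The algebra data in odd degree. -/
theorem exists_algData (hreal : ∀ s, conj (ρ.character s) = ρ.character s) (hn : Odd n) (h4 : 4 ≤ n)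
    (h3 : Cfsg.classInner (fun g => ρ.character g * ρ.character g) ρ.character = 1)
    (hskew : Cfsg.IsIrrCharacter G fun g =>
      (ρ.character g * ρ.character g - ρ.character (g * g)) / 2) :
    ∃ D : AlgData G (Fin n → ℂ), D.rho = ρ :=
  exists_algData_of_indicator ρ hreal (indicator_one_of_odd ρ hreal hn) h4 h3 hskew

end Cfsg.Agent.M12Uniq
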