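import Cfsg.Agent.Lib.M12Uniq.Tools

/-!
A simple group of order 95040: generalities.
-/

set_option linter.unusedSectionVars false
set_option linter.style.haveILetI false

namespace Cfsg.Agent.M12Uniq

open Cfsg Cfsg.Agent.Char Cfsg.Agent.Blocks Cfsg.Agent.CCSylow Cfsg.Agent.DefOne

open scoped ComplexConjugate

universe u

variable {G : Type u} [Group G] [Fintype G]

/-- The basic facts about the principal families. -/
theorem families_facts {p : ℕ} {M : Ideal AlgInt} [M.IsPrime] (hM : IsPModular p M) (hp2 : 2 < p)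
    {P V N : Subgroup G} {e : ℕ} (K : Conf p P V N e) [Fintype P] [Fintype V] [Fintype N]
    [Fintype (P →* ℂˣ)] {eb : ℕ} {X Y : Finset (IrrCharacter G)} {δ : ℤ}
    {sg : IrrCharacter G → ℤ} (F : Families K (trivB V) eb X Y δ sg) :
    X.card = e ∧ Y.card * e = p - 1 ∧
    (∀ χ ∈ X, (charDegree (χ : G → ℂ) : ℤ) ≡ sg χ [ZMOD p]) ∧
    (∀ χ ∈ Y, (charDegree (χ : G → ℂ) : ℤ) ≡ -δ * e [ZMOD p]) ∧
    (∀ θ ∈ Y, ∑ χ ∈ X, sg χ * (charDegree (χ : G → ℂ) : ℤ) +
      δ * (charDegree (θ : G → ℂ) : ℤ) = 0) ∧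
    (∀ θ ∈ Y, ∀ θ' ∈ Y, charDegree (θ : G → ℂ) = charDegree (θ' : G → ℂ)) ∧
    ((principal G ∈ X ∧ sg (principal G) = 1) ∨ Y = {principal G}) := by
  classical
  have hee : eb = e := eb_triv K F
  have hB := principal_eq K hM F
  have hmem : ∀ χ, χ ∈ X ∨ χ ∈ Y → χ ∈ principalBlock M G := fun χ h => by rw [hB]; exact h
  have hX : ∀ χ ∈ X, (charDegree (χ : G → ℂ) : ℤ) ≡ sg χ [ZMOD p] := fun χ hχ => by
    have h := degree_congr K hM (hmem χ (Or.inl hχ))
    rw [Families.sum_X K F hχ] at h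
    exact h.trans (Int.modEq_iff_dvd.2 ⟨sg χ, by ring⟩)
  have h1p : ¬ p ∣ orderOf (1 : G) := by simpa using K.hp.ne_one
  refine ⟨F.cardX.trans hee, hee ▸ F.cardY, hX, fun χ hχ => ?_, fun θ hθ => ?_,
    fun θ hθ θ' hθ' => ?_, ?_⟩
  · have h := degree_congr K hM (hmem χ (Or.inr hχ))
    rw [F.sumY χ hχ, hee] at h
    simpa using h
  · have h := Families.relation K F hθ h1p
    simp only [irr_one_eq_charDegree] at h
    exact_mod_cast h
  · have h := Families.agree K F hθ hθ' h1p
    rw [irr_one_eq_charDegree, irr_one_eq_charDegree] at h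
    exact_mod_cast h
  · have h : principal G ∈ X ∨ principal G ∈ Y := by
      have := Cfsg.Agent.Blocks.principal_mem_principalBlock (M := M) (G := G)
      rw [hB] at this
      exact this
    rcases h with h | h
    · refine Or.inl ⟨h, ?_⟩
      have h2 := hX _ h
      have h3 : charDegree (principal G : G → ℂ) = 1 := Cfsg.Agent.CharX.charDegree_one
      rw [h3] at h2
      rcases F.signX _ h with e1 | e1
      · exact e1
      · rw [e1, Int.modEq_iff_dvd] at h2
        exact absurd (Int.le_of_dvd (by norm_num) (dvd_neg.2 h2)) (by omega)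
    · refine Or.inr (Finset.eq_singleton_iff_unique_mem.2 ⟨h, fun θ hθ => ?_⟩)
      obtain ⟨σ, -, rfl⟩ := F.transY _ h θ hθ
      exact Subtype.ext (funext fun g => map_one σ)

section Order

variable [IsSimpleGroup G] (hG : Nat.card G = 95040)

include hG

theorem not_prime : ¬ (Nat.card G).Prime := by rw [hG]; norm_num

theorem perfect (f : G →* ℂˣ) : f = 1 := DefOne.Order7920.hom_eq_one (not_prime hG) f

theorem deg_facts (χ : IrrCharacter G) :
    charDegree (χ : G → ℂ) ≤ 308 ∧ charDegree (χ : G → ℂ) ∣ 95040 := by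
  classical
  refine ⟨?_, hG ▸ charDegree_dvd_card χ⟩
  have h := Finset.single_le_sum (f := fun χ : IrrCharacter G => charDegree (χ : G → ℂ) ^ 2)
    (fun _ _ => Nat.zero_le _) (Finset.mem_univ χ)
  rw [Cfsg.Agent.CharX.sum_deg_sq, hG] at h
  nlinarith

theorem eq_principal {χ : IrrCharacter G} (h : charDegree (χ : G → ℂ) = 1) : χ = principal G :=
  DefOne.Order7920.eq_principal_of_deg_one (not_prime hG) h

theorem norm_ne {χ : IrrCharacter G} (hne : χ ≠ principal G) {g : G} (hg : g ≠ 1) :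
    ‖(χ : G → ℂ) g‖ ≠ (charDegree (χ : G → ℂ) : ℝ) := DefOne.Order7920.norm_ne (not_prime hG) hne hg

/-- The value of a nontrivial character at an involution. -/
theorem involution_range {χ : IrrCharacter G} (hne : χ ≠ principal G) {t : G} (ht : orderOf t = 2) :
    ∃ a : ℤ, (χ : G → ℂ) t = a ∧ (4 : ℤ) ∣ (charDegree (χ : G → ℂ) : ℤ) - a ∧
      |a| < (charDegree (χ : G → ℂ) : ℤ) := by
  have htt : t * t = 1 := by rw [← pow_two, ← ht, pow_orderOf_eq_one]
  have ht1 : t ≠ 1 := fun h => by rw [h, orderOf_one] at ht; omega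
  obtain ⟨a, ha, h4, hle⟩ := involution_mod_four (perfect hG) (IsIrrCharacter.isCharacter χ.2)
    (irr_one_eq_charDegree χ) htt
  refine ⟨a, ha, h4, lt_of_le_of_ne hle fun he => ?_⟩
  have h := norm_ne hG hne ht1
  rw [ha, Complex.norm_intCast, ← Int.cast_abs, he, Int.cast_natCast] at h
  exact h rfl

/-- A Sylow configuration at a prime dividing the order once. -/
theorem exists_config {p : ℕ} [Fact p.Prime] (h1 : p ∣ 95040) (h2 : ¬ p ^ 2 ∣ 95040) :
    ∃ (P : Sylow p G) (V : Subgroup G) (e : ℕ),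
      Conf p (P : Subgroup G) V (Subgroup.normalizer ((P : Subgroup G) : Set G)) e ∧
      e ∣ p - 1 ∧ ∃ n, 1 < n ∧ n % p = 1 ∧ n * (e * (p * Nat.card V)) = 95040 := by
  have hp : p.Prime := Fact.out
  obtain ⟨P⟩ : Nonempty (Sylow p G) := inferInstance
  have hfac : (Nat.card G).factorization p = 1 := by
    rw [hG]
    have a1 := (hp.dvd_iff_one_le_factorization (by norm_num : (95040 : ℕ) ≠ 0)).1 h1
    have a2 : ¬ 2 ≤ (95040 : ℕ).factorization p := fun h =>
      h2 ((hp.pow_dvd_iff_le_factorization (by norm_num)).2 h)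
    omega
  have hP : Nat.card P = p := by rw [Sylow.card_eq_multiplicity, hfac, pow_one]
  obtain ⟨V, e, K, -⟩ := exists_conf hp P hP
  refine ⟨P, V, e, K, ?_, (Subgroup.normalizer ((P : Subgroup G) : Set G)).index, ?_, ?_, ?_⟩
  · haveI : Fintype ((P : Subgroup G) →* ℂˣ) := Fintype.ofFinite _
    have := dvd_card_sub_one K.D
    rwa [K.hP] at this
  · have h0 : (Subgroup.normalizer ((P : Subgroup G) : Set G)).index ≠ 0 :=
      Subgroup.index_ne_zero_of_finite
    refine lt_of_le_of_ne (Nat.one_le_iff_ne_zero.2 h0) fun h => ?_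
    have hn : (P : Subgroup G).Normal :=
      Subgroup.normalizer_eq_top_iff.1 (Subgroup.index_eq_one.1 h.symm)
    rcases hn.eq_bot_or_eq_top with e' | e'
    · rw [e', Subgroup.card_bot] at hP; exact hp.ne_one hP.symm
    · rw [e', Subgroup.card_top, hG] at hP; subst hP; norm_num at hp
  · have h := card_sylow_modEq_one p G
    rw [P.card_eq_index_normalizer] at h
    exact Nat.mod_eq_of_modEq h hp.one_lt
  · have h := (Subgroup.normalizer ((P : Subgroup G) : Set G)).index_mul_card
    rwa [K.D.hcard, K.hP, hG] at h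

end Order

end Cfsg.Agent.M12Uniq
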