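import Cfsg.Agent.Lib.M11Local.Setup
import Cfsg.Agent.Lib.Char.FrobeniusSchur
import Cfsg.Agent.Lib.Char.GaloisRat
import Cfsg.Agent.Lib.Char.Integral

/-!
Numerical tools for the characters of a simple group: values at involutions, integrality on classes,
norms of columns and class multiplication constants.
-/

set_option linter.unusedSectionVars false
set_option linter.style.haveILetI false

namespace Cfsg.Agent.M12Uniq

open Cfsg Cfsg.Agent.Char Cfsg.Agent.Blocks Module

open scoped ComplexConjugate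

universe u

section Det

variable {V : Type*} [AddCommGroup V] [Module ℂ V] [FiniteDimensional ℂ V]

/-- The trace and the determinant of an involution. -/
theorem trace_det_involution (f : V →ₗ[ℂ] V) (hf : f * f = 1) :
    ∃ k : ℕ, k ≤ finrank ℂ V ∧ LinearMap.trace ℂ V f = (finrank ℂ V : ℂ) - 2 * k ∧
      LinearMap.det f = (-1) ^ k := by
  set F : V →ₗ[ℂ] V := (2 : ℂ)⁻¹ • (1 + f) with hF
  have hidem : F * F = F := by
    rw [hF, smul_mul_smul_comm, add_mul, mul_add, mul_add, one_mul, one_mul, mul_one, hf]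
    rw [show (1 : V →ₗ[ℂ] V) + f + (f + 1) = (2 : ℂ) • (1 + f) by rw [two_smul]; abel,
      smul_smul, mul_assoc, inv_mul_cancel₀ two_ne_zero, mul_one]
  have hproj : LinearMap.IsProj (LinearMap.range F) F :=
    ⟨fun x => LinearMap.mem_range_self F x, fun x hx => by
      obtain ⟨z, rfl⟩ := hx
      exact LinearMap.congr_fun hidem z⟩
  have hn := LinearMap.finrank_range_add_finrank_ker F
  refine ⟨finrank ℂ (LinearMap.ker F), by omega, ?_, ?_⟩
  · have h1 : (finrank ℂ (LinearMap.range F) : ℂ) =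
        (2 : ℂ)⁻¹ * ((finrank ℂ V : ℂ) + LinearMap.trace ℂ V f) := by
      rw [← hproj.trace, hF, map_smul, map_add, Module.End.one_eq_id, LinearMap.trace_id, smul_eq_mul]
    have h2 : (finrank ℂ (LinearMap.range F) : ℂ) + finrank ℂ (LinearMap.ker F) = finrank ℂ V := by
      exact_mod_cast hn
    linear_combination (-2 : ℂ) * h1 + 2 * h2
  · set e := (LinearMap.range F).prodEquivOfIsCompl (LinearMap.ker F) hproj.isCompl with he
    have h3 : f = e.conj (LinearMap.prodMap LinearMap.id ((-1 : ℂ) • LinearMap.id)) := by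
      have h4 : f = (2 : ℂ) • F - LinearMap.id := by
        rw [hF, smul_smul, mul_inv_cancel₀ (two_ne_zero), one_smul, Module.End.one_eq_id]
        abel
      have h6 : LinearMap.prodMap (LinearMap.id : LinearMap.range F →ₗ[ℂ] LinearMap.range F)
          ((-1 : ℂ) • (LinearMap.id : LinearMap.ker F →ₗ[ℂ] LinearMap.ker F)) =
          (2 : ℂ) • LinearMap.prodMap LinearMap.id 0 - LinearMap.id := by
        refine LinearMap.ext fun x => Prod.ext ?_ ?_
        · simp [two_smul]
        · simp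
      rw [h6, map_sub, map_smul, LinearEquiv.conj_id, ← hproj.eq_conj_prodMap]
      exact h4
    rw [h3, LinearEquiv.conj_apply, LinearMap.comp_assoc, LinearMap.det_conj, LinearMap.det_prodMap,
      LinearMap.det_id, LinearMap.det_smul, LinearMap.det_id, one_mul, mul_one]

end Det

variable {G : Type u} [Group G] [Fintype G]

/-- The value at an involution in a group without linear characters. -/
theorem involution_mod_four (hperf : ∀ f : G →* ℂˣ, f = 1) {χ : G → ℂ} (hχ : IsCharacter G χ)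
    {d : ℕ} (hd : χ 1 = d) {t : G} (ht : t * t = 1) :
    ∃ a : ℤ, χ t = a ∧ (4 : ℤ) ∣ (d : ℤ) - a ∧ |a| ≤ d := by
  obtain ⟨n, ρ, rfl⟩ := hχ
  have hdet : LinearMap.det (ρ t) = 1 := by
    have h2 := DFunLike.congr_fun (hperf (Cfsg.Agent.CharExtend.detHom ρ)) t
    rw [← Cfsg.Agent.CharExtend.detHom_apply, h2, MonoidHom.one_apply, Units.val_one]
  obtain ⟨k, hk, htr, hd'⟩ := trace_det_involution (ρ t) (by rw [← map_mul, ht, map_one])
  have hn : finrank ℂ (Fin n → ℂ) = d := by
    rw [Representation.char_one] at hd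
    exact_mod_cast hd
  rw [hdet, eq_comm] at hd'
  rcases Nat.even_or_odd k with ⟨j, hj⟩ | hodd
  · refine ⟨(d : ℤ) - 2 * k, ?_, ⟨j, by omega⟩, ?_⟩
    · rw [Representation.character, htr, hn]; push_cast; ring
    · rw [hn] at hk
      rw [abs_le]; constructor <;> omega
  · rw [hodd.neg_one_pow] at hd'
    norm_num at hd'

/-- A rational integer value of an irreducible character gives a divisibility. -/
theorem dvd_index_mul (χ : IrrCharacter G) {g : G} {a : ℤ} (ha : (χ : G → ℂ) g = a) :
    (charDegree (χ : G → ℂ) : ℤ) ∣ ((Subgroup.centralizer ({g} : Set G)).index : ℤ) * a := by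
  obtain ⟨f, n, ρ, hρ, rfl⟩ := χ
  have hint := isIntegral_centralChar ρ g
  have hd : (finrank ℂ (Fin n → ℂ) : ℂ) = (charDegree ρ.character : ℂ) := by
    rw [← Representation.char_one ρ]
    exact irr_one_eq_charDegree ⟨_, n, ρ, hρ, rfl⟩
  change IsIntegral ℤ (((Subgroup.centralizer ({g} : Set G)).index : ℂ) * ρ.character g /
    (finrank ℂ (Fin n → ℂ) : ℂ)) at hint
  change ρ.character g = (a : ℂ) at ha
  rw [ha, hd] at hint
  have hpos : charDegree ρ.character ≠ 0 := (charDegree_pos (⟨_, n, ρ, hρ, rfl⟩ : IrrCharacter G)).ne'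
  obtain ⟨m, -, hm⟩ := M11Local.int_of_eq hint hpos
    (a := ((Subgroup.centralizer ({g} : Set G)).index : ℤ) * a)
    (by rw [mul_div_cancel₀ _ (Nat.cast_ne_zero.2 hpos)]; push_cast; rfl)
  exact ⟨m, hm.symm⟩

/-- The sum of squares of some values in a column. -/
theorem sum_normSq_le (g : G) (s : Finset (IrrCharacter G)) :
    ∑ χ ∈ s, Complex.normSq ((χ : G → ℂ) g) ≤ (Nat.card (Subgroup.centralizer ({g} : Set G)) : ℝ) := by
  classical
  have h : (∑ χ : IrrCharacter G, Complex.normSq ((χ : G → ℂ) g) : ℝ) =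
      (Nat.card (Subgroup.centralizer ({g} : Set G)) : ℝ) := by
    have := column_orth_of_isConj (IsConj.refl g)
    simp only [Complex.mul_conj] at this
    exact_mod_cast this
  rw [← h]
  exact Finset.sum_le_sum_of_subset_of_nonneg (Finset.subset_univ s) fun χ _ _ => Complex.normSq_nonneg _

/-- Integer values in a column. -/
theorem sum_sq_le (g : G) (s : Finset (IrrCharacter G)) (a : IrrCharacter G → ℤ)
    (ha : ∀ χ ∈ s, (χ : G → ℂ) g = a χ) :
    ∑ χ ∈ s, a χ ^ 2 ≤ (Nat.card (Subgroup.centralizer ({g} : Set G)) : ℤ) := by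
  have h := sum_normSq_le g s
  have h2 : ∑ χ ∈ s, Complex.normSq ((χ : G → ℂ) g) = ∑ χ ∈ s, ((a χ : ℝ)) ^ 2 :=
    Finset.sum_congr rfl fun χ hχ => by rw [ha χ hχ, Complex.normSq_intCast, pow_two]
  rw [h2] at h
  exact_mod_cast h

/-- The class multiplication constant. -/
theorem structure_count (g k y : G) : ∃ n : ℕ, (n : ℂ) *
    ((Nat.card (Subgroup.centralizer ({g} : Set G)) : ℂ) * Nat.card (Subgroup.centralizer ({k} : Set G))) =
    (Nat.card G : ℂ) * ∑ χ : IrrCharacter G,
      (χ : G → ℂ) g * (χ : G → ℂ) k * conj ((χ : G → ℂ) y) / (χ : G → ℂ) 1 := by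
  classical
  refine ⟨((classFinset g ×ˢ classFinset k).filter fun p => p.1 * p.2 = y).card, ?_⟩
  have hCy : (Nat.card (Subgroup.centralizer ({y} : Set G)) : ℂ) ≠ 0 := Nat.cast_ne_zero.2 Nat.card_pos.ne'
  set T := (classFinset g ×ˢ classFinset k).filter fun p => IsConj (p.1 * p.2) y with hT
  -- all the members of the class of `y` occur equally often
  have hfib : (T.card : ℂ) = ((Subgroup.centralizer ({y} : Set G)).index : ℂ) *
      ((classFinset g ×ˢ classFinset k).filter fun p => p.1 * p.2 = y).card := by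
    have h1 := Finset.card_eq_sum_card_fiberwise (f := fun p : G × G => p.1 * p.2) (s := T)
      (t := classFinset y) (fun p hp => mem_classFinset.2 (Finset.mem_filter.1 hp).2.symm)
    rw [h1, ← Cfsg.Agent.Char.card_classFinset, Nat.cast_sum, ← nsmul_eq_mul, ← Finset.sum_const]
    refine Finset.sum_congr rfl fun z hz => ?_
    norm_cast
    obtain ⟨c, hc⟩ := isConj_iff.1 (mem_classFinset.1 hz)
    refine (Finset.card_equiv ((MulAut.conj c).toEquiv.prodCongr (MulAut.conj c).toEquiv) fun p => ?_).symm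
    simp only [hT, Finset.mem_filter, Finset.mem_product, mem_classFinset, Equiv.prodCongr_apply,
      Prod.map_fst, Prod.map_snd, MulEquiv.toEquiv_eq_coe, MulEquiv.coe_toEquiv, MulAut.conj_apply]
    have e1 : c * p.1 * c⁻¹ * (c * p.2 * c⁻¹) = c * (p.1 * p.2) * c⁻¹ := by group
    rw [e1, ← hc]
    have hgc : ∀ a b : G, IsConj a (c * b * c⁻¹) ↔ IsConj a b := fun a b =>
      ⟨fun h => h.trans (isConj_iff.2 ⟨c⁻¹, by group⟩), fun h => h.trans (isConj_iff.2 ⟨c, rfl⟩)⟩
    rw [hgc, hgc, mul_left_inj, mul_right_inj]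
    constructor
    · rintro ⟨h, he⟩
      refine ⟨⟨⟨h.1, h.2⟩, ?_⟩, he⟩
      rw [he]; exact isConj_iff.2 ⟨c⁻¹, by group⟩
    · rintro ⟨⟨h, -⟩, he⟩; exact ⟨h, he⟩
  have hsum : ∑ χ : IrrCharacter G, (∑ a ∈ classFinset g, ∑ b ∈ classFinset k, (χ : G → ℂ) (a * b)) *
      conj ((χ : G → ℂ) y) = (T.card : ℂ) * Nat.card (Subgroup.centralizer ({y} : Set G)) := by
    simp only [Finset.sum_mul]
    rw [Finset.sum_comm, hT, Finset.natCast_card_filter, Finset.sum_mul, Finset.sum_product]
    refine Finset.sum_congr rfl fun a _ => ?_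
    rw [Finset.sum_comm]
    refine Finset.sum_congr rfl fun b _ => ?_
    show ∑ χ : IrrCharacter G, (χ : G → ℂ) (a * b) * conj ((χ : G → ℂ) y) = _
    by_cases hab : IsConj (a * b) y
    · rw [if_pos hab, one_mul, ← column_orth_of_isConj (IsConj.refl y)]
      refine Finset.sum_congr rfl fun χ _ => ?_
      rw [M11Local.class_eq (IsIrrCharacter.isCharacter χ.2) hab]
    · rw [if_neg hab, zero_mul, column_orth_of_not_isConj hab]
  rw [hfib] at hsum
  have hidx : ∀ x : G, ((Subgroup.centralizer ({x} : Set G)).index : ℂ) *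
      Nat.card (Subgroup.centralizer ({x} : Set G)) = (Nat.card G : ℂ) := fun x => by
    exact_mod_cast Subgroup.index_mul_card _
  set Z := ∑ χ : IrrCharacter G, (χ : G → ℂ) g * (χ : G → ℂ) k * conj ((χ : G → ℂ) y) / (χ : G → ℂ) 1
  have hZ : ∑ χ : IrrCharacter G, (∑ a ∈ classFinset g, ∑ b ∈ classFinset k, (χ : G → ℂ) (a * b)) *
      conj ((χ : G → ℂ) y) = ((Subgroup.centralizer ({g} : Set G)).index : ℂ) *
        ((Subgroup.centralizer ({k} : Set G)).index : ℂ) * Z := by
    rw [Finset.mul_sum]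
    refine Finset.sum_congr rfl fun χ _ => ?_
    rw [TICongr.sum_class_mul χ.2]
    ring
  rw [hZ] at hsum
  have hG0 : (Nat.card G : ℂ) ≠ 0 := Nat.cast_ne_zero.2 Nat.card_pos.ne'
  refine mul_left_cancel₀ hG0 ?_
  linear_combination (-(Nat.card (Subgroup.centralizer ({g} : Set G)) : ℂ) *
      Nat.card (Subgroup.centralizer ({k} : Set G))) * hsum +
    (-((((classFinset g ×ˢ classFinset k).filter fun p => p.1 * p.2 = y).card : ℂ)) *
      (Nat.card (Subgroup.centralizer ({g} : Set G)) : ℂ) *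
      Nat.card (Subgroup.centralizer ({k} : Set G))) * hidx y +
    (((Subgroup.centralizer ({k} : Set G)).index : ℂ) *
      Nat.card (Subgroup.centralizer ({k} : Set G)) * Z) * hidx g + ((Nat.card G : ℂ) * Z) * hidx k

/-- A product of two involutions is inverted by the first. -/
theorem isConj_inv_of_involutions {a b : G} (ha : a * a = 1) (hb : b * b = 1) :
    IsConj (a * b) (a * b)⁻¹ := by
  refine isConj_iff.2 ⟨a, ?_⟩
  rw [mul_inv_rev, inv_eq_of_mul_eq_one_left ha, inv_eq_of_mul_eq_one_left hb, ← mul_assoc a a b, ha,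
    one_mul]

theorem sq_of_isConj {g a : G} (h : IsConj g a) (hg : g * g = 1) : a * a = 1 := by
  obtain ⟨c, rfl⟩ := isConj_iff.1 h
  rw [show c * g * c⁻¹ * (c * g * c⁻¹) = c * (g * g) * c⁻¹ by group, hg, mul_one, mul_inv_cancel]

/-- No product of two involutions is a non-real element. -/
theorem structure_zero_nonreal {g k y : G} (hg : g * g = 1) (hk : k * k = 1) (hy : ¬ IsConj y y⁻¹) :
    ∑ χ : IrrCharacter G, (χ : G → ℂ) g * (χ : G → ℂ) k * conj ((χ : G → ℂ) y) / (χ : G → ℂ) 1 = 0 := by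
  refine M11Local.structure_zero fun a b ha hb hab => hy ?_
  have h1 := isConj_inv_of_involutions (sq_of_isConj ha hg) (sq_of_isConj hb hk)
  refine hab.symm.trans (h1.trans ?_)
  obtain ⟨c, hc⟩ := isConj_iff.1 hab
  exact isConj_iff.2 ⟨c, by rw [← hc]; group⟩

/-- No product of two involutions of different classes has odd order. -/
theorem structure_zero_odd {g k y : G} (hg : g * g = 1) (hk : k * k = 1) (hgk : ¬ IsConj g k)
    (hy : Odd (orderOf y)) :
    ∑ χ : IrrCharacter G, (χ : G → ℂ) g * (χ : G → ℂ) k * conj ((χ : G → ℂ) y) / (χ : G → ℂ) 1 = 0 := by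
  refine M11Local.structure_zero fun a b ha hb hab => hgk ?_
  obtain ⟨c, hc⟩ := isConj_iff.1 hab
  refine (ha.trans (M11Local.isConj_of_odd (sq_of_isConj ha hg) (sq_of_isConj hb hk) ?_)).trans hb.symm
  rwa [← hc, ← MulAut.conj_apply, MulEquiv.orderOf_eq] at hy

/-- A character which is the only one of its degree has integer values. -/
theorem exists_int_of_unique (χ : IrrCharacter G)
    (h : ∀ ψ : IrrCharacter G, (ψ : G → ℂ) 1 = (χ : G → ℂ) 1 → ψ = χ) (g : G) :
    ∃ a : ℤ, (χ : G → ℂ) g = a := by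
  obtain ⟨q, hq⟩ := CharGalois.eq_rat_of_fixed (irr_isIntegral χ g) fun σ => by
    have h1 := h (DefOne.galT σ χ) (DefOne.galT_one σ χ)
    rw [← DefOne.galT_apply σ χ g, h1]
  obtain ⟨a, ha⟩ := exists_int_of_isIntegral (q := q) (hq ▸ irr_isIntegral χ g)
  exact ⟨a, by rw [hq, ha]; push_cast; rfl⟩

end Cfsg.Agent.M12Uniq
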